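import Cfsg.Agent.H96.GuDefs

/-! helper42: piece GU-GP of S5700 (helper96's team project): singular vectors with prescribed
inner products against an independent family (here `u, J u` and `u, J u, y, J y`). -/

set_option autoImplicit false
set_option linter.unusedSectionVars false

namespace Cfsg.Agent.H42.Gu

open Module Matrix Cfsg.Agent.H49 Cfsg.Agent.H95 Cfsg.Agent.H96.Gu

universe u

section
variable {ι : Type} [Fintype ι] [DecidableEq ι] {F : Type u} [Field F]

/-- Prescribed inner products against a linearly independent family (non-degenerate form). -/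
theorem exists_prescribed {k : ℕ} (Q : QuadraticForm F (ι → F))
    (hQ : (QuadraticMap.polarBilin Q).Nondegenerate) (v : Fin k → ι → F)
    (hli : ∀ a : Fin k → F, ∑ i, a i • v i = 0 → ∀ i, a i = 0) (c : Fin k → F) :
    ∃ w : ι → F, ∀ i, QuadraticMap.polar (⇑Q) w (v i) = c i := by
  classical
  obtain ⟨Ψ, hΨ⟩ : ∃ Ψ : (ι → F) →ₗ[F] (Fin k → F),
      ∀ w i, Ψ w i = QuadraticMap.polar (⇑Q) w (v i) :=
    ⟨LinearMap.pi (fun i => (QuadraticMap.polarBilin Q).flip (v i)), fun w i => rfl⟩
  have hsurj : LinearMap.range Ψ = ⊤ := by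
    by_contra hne
    obtain ⟨f, hf, hle⟩ := Submodule.exists_le_ker_of_lt_top _ (lt_top_iff_ne_top.mpr hne)
    apply hf
    obtain ⟨a, ha⟩ : ∃ a : Fin k → F, ∀ i, a i = f (fun j => if i = j then 1 else 0) :=
      ⟨_, fun i => rfl⟩
    have hfx : ∀ x : Fin k → F, f x = ∑ i, x i * a i := by
      intro x
      rw [LinearMap.pi_apply_eq_sum_univ f x]
      exact Finset.sum_congr rfl (fun i _ => by rw [ha i, smul_eq_mul])
    have hz : ∀ w, QuadraticMap.polar (⇑Q) w (∑ i, a i • v i) = 0 := by
      intro w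
      have h1 : f (Ψ w) = 0 := LinearMap.mem_ker.mp (hle (LinearMap.mem_range_self Ψ w))
      rw [hfx] at h1
      have h2 : QuadraticMap.polar (⇑Q) w (∑ i, a i • v i)
          = ∑ i, a i * QuadraticMap.polar (⇑Q) w (v i) := by
        show (QuadraticMap.polarBilin Q w) (∑ i, a i • v i) = _
        rw [map_sum]
        refine Finset.sum_congr rfl (fun i _ => ?_)
        rw [map_smul, smul_eq_mul]
        rfl
      rw [h2, ← h1]
      exact Finset.sum_congr rfl (fun i _ => by rw [hΨ, mul_comm])
    have h0 : ∑ i, a i • v i = 0 := hQ.2 _ (fun w => hz w)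
    have ha0 := hli a h0
    apply LinearMap.ext
    intro x
    rw [hfx]
    simp [ha0]
  have hc : c ∈ LinearMap.range Ψ := by rw [hsurj]; trivial
  obtain ⟨w, hw⟩ := hc
  exact ⟨w, fun i => by rw [← hΨ, hw]⟩

/-- A singular vector with prescribed inner products against a linearly independent family of
`k` vectors, when `2 (k + 1) + 3 ≤ dim`. -/
theorem exists_singular_prescribed [Finite F] {k : ℕ} (Q : QuadraticForm F (ι → F))
    (hQ : (QuadraticMap.polarBilin Q).Nondegenerate)
    (hk : 2 * (k + 1) + 3 ≤ Fintype.card ι) (v : Fin k → ι → F)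
    (hli : ∀ a : Fin k → F, ∑ i, a i • v i = 0 → ∀ i, a i = 0) (c : Fin k → F) :
    ∃ w : ι → F, Q w = 0 ∧ ∀ i, QuadraticMap.polar (⇑Q) w (v i) = c i := by
  classical
  obtain ⟨w₀, hw₀⟩ := exists_prescribed Q hQ v hli c
  obtain ⟨X, hX⟩ : ∃ X : Submodule F (ι → F),
      X = Submodule.span F (insert w₀ (Set.range v)) := ⟨_, rfl⟩
  have hfin : finrank F X ≤ k + 1 := by
    have h := finrank_span_finset_le_card (R := F) (insert w₀ (Finset.univ.image v))
    have h2 : ((insert w₀ (Finset.univ.image v) : Finset (ι → F)) : Set (ι → F))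
        = insert w₀ (Set.range v) := by
      simp
    rw [Set.finrank, h2, ← hX] at h
    refine h.trans ((Finset.card_insert_le _ _).trans ?_)
    have h3 := Finset.card_image_le (s := (Finset.univ : Finset (Fin k))) (f := v)
    rw [Finset.card_univ, Fintype.card_fin] at h3
    omega
  have hfr : finrank F (ι → F) = Fintype.card ι := by simp
  obtain ⟨e, e', he, he', hee, heX, he'X⟩ := exists_hyp_pair_orth Q hQ X (by omega)
  have hw₀X : w₀ ∈ X := by rw [hX]; exact Submodule.subset_span (Set.mem_insert _ _)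
  have hvX : ∀ i, v i ∈ X := fun i => by
    rw [hX]; exact Submodule.subset_span (Set.mem_insert_of_mem _ (Set.mem_range_self i))
  have hee' : QuadraticMap.polar (⇑Q) e' e = 1 := by rw [QuadraticMap.polar_comm]; exact hee
  refine ⟨w₀ + (e - Q w₀ • e'), ?_, fun i => ?_⟩
  · rw [Q_add', Q_sub_smul, he, he', hee', QuadraticMap.polar_sub_right,
      QuadraticMap.polar_smul_right, heX w₀ hw₀X, he'X w₀ hw₀X]
    simp
  · rw [QuadraticMap.polar_add_left, QuadraticMap.polar_sub_left, QuadraticMap.polar_smul_left,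
      hw₀ i, QuadraticMap.polar_comm (⇑Q) e, QuadraticMap.polar_comm (⇑Q) e', heX _ (hvX i),
      he'X _ (hvX i)]
    simp

end

/-- piece GU-GP -/
theorem gp (hInd : StInd.{u}) : StGP.{u} := by
  intro ι _ _ F _ _ Q J t N C u hu
  obtain ⟨hI2, hI4⟩ := hInd Q J t N C u hu
  have hdim := C.dim
  refine ⟨fun c₁ c₂ => ?_, fun y hy c₁ c₂ c₃ c₄ => ?_⟩
  · obtain ⟨w, hw, hv⟩ := exists_singular_prescribed Q C.nd (k := 2) (by omega) ![u, J u]
      (fun a ha => by
        rw [Fin.sum_univ_two] at ha
        obtain ⟨h1, h2⟩ := hI2 (a 0) (a 1) (by simpa using ha)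
        intro i
        fin_cases i
        · exact h1
        · exact h2) ![c₁, c₂]
    exact ⟨w, hw, by simpa using hv 0, by simpa using hv 1⟩
  · obtain ⟨w, hw, hv⟩ := exists_singular_prescribed Q C.nd (k := 4) (by omega)
      ![u, J u, y, J y]
      (fun a ha => by
        rw [Fin.sum_univ_four] at ha
        obtain ⟨h1, h2, h3, h4⟩ := hI4 y hy (a 0) (a 1) (a 2) (a 3) (by simpa using ha)
        intro i
        fin_cases i
        · exact h1
        · exact h2
        · exact h3
        · exact h4) ![c₁, c₂, c₃, c₄]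
    exact ⟨w, hw, by simpa using hv 0, by simpa using hv 1, by simpa using hv 2,
      by simpa using hv 3⟩

example : Cfsg.Agent.H96.Gu.StInd.{u} → Cfsg.Agent.H96.Gu.StGP.{u} := gp

end Cfsg.Agent.H42.Gu

#print axioms Cfsg.Agent.H42.Gu.gp
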