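import Cfsg.Agent.H96.GuDefs

/-! helper42: piece GU-PROPER of S5700 (helper96's team project): some Siegel element of the
commutator subgroup does not normalise `F[J]`. -/

set_option autoImplicit false
set_option linter.unusedSectionVars false

namespace Cfsg.Agent.H42.Gu

open Module Matrix Cfsg.Agent.H49 Cfsg.Agent.H95 Cfsg.Agent.H96.Gu

universe u

/-- piece GU-PROPER -/
theorem proper (hInd : StInd.{u}) (hGP : StGP.{u}) (hSNM : StSNM.{u}) : StProper.{u} := by
  intro ι _ _ F _ _ Q J t N C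
  -- a nonzero singular `u`
  obtain ⟨u, hu, -, -, hune⟩ := hSNM Q J t N C 0 0
  have hu0 : u ≠ 0 := by
    have := hune 0 0 0 0
    simpa using this
  -- `y` singular, orthogonal to the line of `u`, outside it
  obtain ⟨y, hy, hyu, -, hyne⟩ := hSNM Q J t N C u u
  have hyK : ¬ inK J u y := by
    rintro ⟨a, b, hab⟩
    apply hyne a b 0 0
    rw [hab]; simp
  have huy : QuadraticMap.polar (⇑Q) u y = 0 := by rw [QuadraticMap.polar_comm]; exact hyu.1
  refine ⟨siegelG Q u y hu hy huy 1,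
    Cfsg.Agent.H49.siegelG_mem_commutator Q C.nd C.ts u y hu hy huy 1, ?_⟩
  rintro ⟨a, b, hab⟩
  obtain ⟨hI2, -⟩ := hInd Q J t N C u hu0
  have huu : QuadraticMap.polar (⇑Q) u u = 0 := pol_self Q hu
  have huJu : QuadraticMap.polar (⇑Q) u (J u) = 0 := C.pol_self_J hu
  have hyJu : QuadraticMap.polar (⇑Q) y (J u) = 0 := hyu.2
  have hyu1 : QuadraticMap.polar (⇑Q) y u = 0 := hyu.1
  -- `x = u`: the element fixes `u` and `J u`
  have h1 := hab u
  rw [act_siegelG, act_siegelG, huu, huJu, hyJu, hyu1] at h1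
  simp only [zero_smul, sub_zero, smul_zero, add_zero] at h1
  have h2 : a • u + (b - 1) • J u = 0 := by
    rw [sub_smul, one_smul, ← add_sub_assoc, ← h1, sub_self]
  obtain ⟨ha, hb⟩ := hI2 a (b - 1) h2
  have hb1 : b = 1 := sub_eq_zero.mp hb
  -- a test vector
  obtain ⟨x, -, hxu, hxJu, hxy, hxJy⟩ := (hGP Q J t N C u hu0).2 y hyK 1 t 0 0
  have hux : QuadraticMap.polar (⇑Q) u x = 1 := by rw [QuadraticMap.polar_comm]; exact hxu
  have hyx : QuadraticMap.polar (⇑Q) y x = 0 := by rw [QuadraticMap.polar_comm]; exact hxy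
  have huJx : QuadraticMap.polar (⇑Q) u (J x) = 0 := by
    rw [C.adj', hux, QuadraticMap.polar_comm, hxJu]; ring
  have hyJx : QuadraticMap.polar (⇑Q) y (J x) = 0 := by
    rw [C.adj', hyx, QuadraticMap.polar_comm, hxJy]; ring
  have h3 := hab x
  rw [act_siegelG, act_siegelG, huJx, hyJx, hux, hyx, ha, hb1] at h3
  simp only [zero_smul, sub_zero, smul_zero, add_zero, one_smul, zero_add, map_add] at h3
  have hJy : J y = 0 := by simpa using h3
  have hy0 : y = 0 := by
    have h4 := C.sq y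
    rw [hJy] at h4
    simp only [map_zero, smul_zero, zero_sub] at h4
    have h5 : N • y = 0 := by
      have := congrArg Neg.neg h4
      simpa using this.symm
    exact (smul_eq_zero.mp h5).resolve_left C.N_ne
  apply hyK
  exact ⟨0, 0, by rw [hy0]; simp⟩

example : Cfsg.Agent.H96.Gu.StInd.{u} → Cfsg.Agent.H96.Gu.StGP.{u} →
    Cfsg.Agent.H96.Gu.StSNM.{u} → Cfsg.Agent.H96.Gu.StProper.{u} := proper

end Cfsg.Agent.H42.Gu

#print axioms Cfsg.Agent.H42.Gu.proper
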