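import Mathlib
import Cfsg.Agent.H17.HermBasis
import Cfsg.Agent.H17.WittHerm

set_option autoImplicit false

namespace Cfsg.Agent.H42

open Module

section

variable {F V : Type*} [Field F] [AddCommGroup V] [Module F V]

/-- A presentation of a self-adjoint operator `N` relative to a Hermitian form `B`. -/
def HPres {σ : F →+* F} {r : ℕ} (B : V →ₛₗ[σ] V →ₗ[F] F) (N : V →ₗ[F] V) (t : Fin r → V) : Prop :=
  (∀ i j, B (N (t i)) (t j) = if i = j then 1 else 0) ∧
    ∀ x, N x = ∑ i, B (N (t i)) x • N (t i)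

/-- A complement of the kernel of a self-adjoint operator (sesquilinear version). -/
theorem herm_compl_setup {σ : F →+* F} (B : V →ₛₗ[σ] V →ₗ[F] F) (N : V →ₗ[F] V)
    (hN : ∀ x y, B (N x) y = B x (N y)) :
    ∃ C : Submodule F V, (∀ x : V, ∃ c : C, N x = N c ∧ ∀ y, B (N y) x = B (N y) c) ∧
      (∀ c : C, N c = 0 → c = 0) := by
  obtain ⟨C, hC⟩ := Submodule.exists_isCompl (LinearMap.ker N)
  refine ⟨C, ?_, ?_⟩
  · intro x
    have hx : x ∈ LinearMap.ker N ⊔ C := by
      rw [hC.sup_eq_top]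
      exact Submodule.mem_top
    obtain ⟨k, hk, c, hc, rfl⟩ := Submodule.mem_sup.1 hx
    have hk0 : N k = 0 := LinearMap.mem_ker.1 hk
    refine ⟨⟨c, hc⟩, ?_, ?_⟩
    · rw [map_add, hk0, zero_add]
    · intro y
      rw [map_add, hN y k, hk0, map_zero, zero_add]
  · intro c hc
    have h1 : (c : V) ∈ LinearMap.ker N ⊓ C := ⟨LinearMap.mem_ker.2 hc, c.2⟩
    rw [hC.inf_eq_bot, Submodule.mem_bot] at h1
    exact Subtype.ext h1

/-- Existence of a presentation for a self-adjoint operator. -/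
theorem herm_pres_exists [Finite F] [FiniteDimensional F V] (σ : F →+* F) (hσ : σ ≠ RingHom.id F)
    (hσ2 : ∀ a : F, σ (σ a) = a) (B : V →ₛₗ[σ] V →ₗ[F] F) (hS : B.IsSymm)
    (hB : B.Nondegenerate) (N : V →ₗ[F] V) (hN : ∀ x y, B (N x) y = B x (N y)) :
    ∃ (r : ℕ) (t : Fin r → V), HPres B N t := by
  obtain ⟨C, hC1, hC2⟩ := herm_compl_setup B N hN
  let β : C →ₛₗ[σ] C →ₗ[F] F := (B.comp N).domRestrict₁₂ C C
  have hβ : ∀ c c' : C, β c c' = B (N c) c' := fun c c' => rfl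
  have hβS : β.IsSymm := ⟨fun c c' => by rw [hβ, hβ, hS.eq, hN]⟩
  have hβL : ∀ c : C, (∀ c' : C, β c c' = 0) → c = 0 := by
    intro c hc
    apply hC2
    apply hB.1
    intro x
    obtain ⟨cx, _, h2⟩ := hC1 x
    rw [h2 c, ← hβ]
    exact hc cx
  have hβN : β.Nondegenerate := by
    refine ⟨hβL, ?_⟩
    intro c' hc'
    apply hβL
    intro c
    rw [← hβS.eq, hc' c, map_zero]
  obtain ⟨b, hb⟩ := Cfsg.Agent.H17.herm_onb_aux σ hσ hσ2 (Module.finrank F C) C β hβS hβN rfl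
  have hrepr : ∀ (c : C) (j : Fin (Module.finrank F C)), b.repr c j = β (b j) c := by
    intro c j
    conv_rhs => rw [← b.sum_repr c]
    simp only [map_sum, map_smul, smul_eq_mul, hb, mul_ite, mul_one, mul_zero,
      Finset.sum_ite_eq, Finset.mem_univ, if_true]
  refine ⟨Module.finrank F C, fun i => (b i : V), ?_, ?_⟩
  · intro i j
    rw [← hβ, hb]
  · intro x
    obtain ⟨cx, h1, h2⟩ := hC1 x
    have h3 := congrArg (fun c : C => N (c : V)) (b.sum_repr cx)
    simp only [AddSubmonoidClass.coe_finsetSum, Submodule.coe_smul, map_sum, map_smul] at h3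
    rw [h1, ← h3]
    apply Finset.sum_congr rfl
    intro i _
    rw [hrepr, hβ, ← h2]

/-- The rank of a presented operator. -/
theorem herm_pres_finrank {σ : F →+* F} {r : ℕ} (B : V →ₛₗ[σ] V →ₗ[F] F) (N : V →ₗ[F] V)
    (hN : ∀ x y, B (N x) y = B x (N y)) (t : Fin r → V) (hP : HPres B N t) :
    Module.finrank F (LinearMap.range N) = r := by
  obtain ⟨hP1, hP2⟩ := hP
  have hli : LinearIndependent F (fun s => N (t s)) := by
    rw [Fintype.linearIndependent_iff]
    intro g hg j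
    have h1 := congrArg (fun v => B (t j) v) hg
    simp only [map_sum, map_smul, smul_eq_mul, ← hN, hP1, map_zero, mul_ite, mul_one, mul_zero,
      Finset.sum_ite_eq, Finset.mem_univ, if_true] at h1
    exact h1
  have hspan : Submodule.span F (Set.range (fun s => N (t s))) = LinearMap.range N := by
    apply le_antisymm
    · rw [Submodule.span_le]
      rintro _ ⟨s, rfl⟩
      exact LinearMap.mem_range_self N (t s)
    · rintro _ ⟨x, rfl⟩
      rw [hP2 x]
      apply Submodule.sum_mem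
      intro s _
      apply Submodule.smul_mem
      apply Submodule.subset_span
      exact ⟨s, rfl⟩
  rw [← hspan, finrank_span_eq_card hli, Fintype.card_fin]

/-- Two self-adjoint square-zero operators with presentations of the same size are conjugate
under an isometry. -/
theorem herm_pres_conj [FiniteDimensional F V] (σ : F →+* F) (hσ : σ ≠ RingHom.id F)
    (hσ2 : ∀ a : F, σ (σ a) = a) (B : V →ₛₗ[σ] V →ₗ[F] F) (hS : B.IsSymm)
    (hB : B.Nondegenerate) (N₁ N₂ : V →ₗ[F] V)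
    (hN₁ : ∀ x y, B (N₁ x) y = B x (N₁ y)) (hN₂ : ∀ x y, B (N₂ x) y = B x (N₂ y))
    (hsq₁ : ∀ x, N₁ (N₁ x) = 0) (hsq₂ : ∀ x, N₂ (N₂ x) = 0)
    {r : ℕ} (t₁ t₂ : Fin r → V) (hP₁ : HPres B N₁ t₁) (hP₂ : HPres B N₂ t₂) :
    ∃ g : V ≃ₗ[F] V, (∀ v w, B (g v) (g w) = B v w) ∧ ∀ y, N₂ (g y) = g (N₁ y) := by
  obtain ⟨hP11, hP12⟩ := hP₁
  obtain ⟨hP21, hP22⟩ := hP₂
  let f : V →ₗ[F] V := ∑ s, (B (t₁ s)).smulRight (N₂ (t₂ s))
  have hf : ∀ x, f x = ∑ s, B (t₁ s) x • N₂ (t₂ s) := by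
    intro x
    simp [f, LinearMap.sum_apply]
  have hfN : ∀ y, f (N₁ y) = ∑ s, B (N₁ (t₁ s)) y • N₂ (t₂ s) := by
    intro y
    rw [hf]
    apply Finset.sum_congr rfl
    intro s _
    rw [hN₁]
  have hfr : ∀ x, f x = N₂ (∑ s, B (t₁ s) x • t₂ s) := by
    intro x
    rw [hf, map_sum]
    apply Finset.sum_congr rfl
    intro s _
    rw [map_smul]
  obtain ⟨g, hg, hgX⟩ := Cfsg.Agent.H17.witt_herm σ hσ hσ2 B hS hB (LinearMap.range N₁) f
    (by
      rintro _ ⟨y, rfl⟩ _ ⟨y', rfl⟩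
      rw [hfr, hfr, hN₂, hsq₂, map_zero, hN₁, hsq₁, map_zero])
    (by
      rintro _ ⟨y, rfl⟩ h0
      rw [hfN] at h0
      have h1 : ∀ j, B (N₁ (t₁ j)) y = 0 := by
        intro j
        have h2 := congrArg (fun v => B (t₂ j) v) h0
        simp only [map_sum, map_smul, smul_eq_mul, ← hN₂, hP21, map_zero, mul_ite, mul_one,
          mul_zero, Finset.sum_ite_eq, Finset.mem_univ, if_true] at h2
        exact h2
      rw [hP12 y]
      apply Finset.sum_eq_zero
      intro s _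
      rw [h1 s, zero_smul])
  have hgt : ∀ j, g (N₁ (t₁ j)) = N₂ (t₂ j) := by
    intro j
    rw [hgX _ (LinearMap.mem_range_self N₁ _), hfN]
    simp only [hP11]
    rw [Finset.sum_eq_single j]
    · simp
    · intro s _ hs
      rw [if_neg hs, zero_smul]
    · intro h
      exact absurd (Finset.mem_univ j) h
  refine ⟨g, hg, ?_⟩
  intro y
  rw [hP22 (g y), hP12 y, map_sum]
  apply Finset.sum_congr rfl
  intro s _
  rw [map_smul, ← hgt, hg]

end

end Cfsg.Agent.H42
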