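import Mathlib
import Cfsg.Agent.H42.HermPres

set_option autoImplicit false

namespace Cfsg.Agent.H42

open Module

section

variable {F V : Type*} [Field F] [AddCommGroup V] [Module F V]

/-- The map acting as `μ` on a hyperbolic plane `⟨u, w⟩` and trivially on its orthogonal
complement. -/
noncomputable def hypScale {σ : F →+* F} (B : V →ₛₗ[σ] V →ₗ[F] F) (u w : V) (μ : F) : V →ₗ[F] V :=
  LinearMap.id + (μ - 1) • ((B w).smulRight u + (B u).smulRight w)

theorem hypScale_apply {σ : F →+* F} (B : V →ₛₗ[σ] V →ₗ[F] F) (u w : V) (μ : F) (x : V) :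
    hypScale B u w μ x = x + (μ - 1) • (B w x • u + B u x • w) := by
  simp [hypScale]

/-- `hypScale` is an isometry when `μ σ(μ) = 1`. -/
theorem hypScale_isom {σ : F →+* F} (B : V →ₛₗ[σ] V →ₗ[F] F) (hS : B.IsSymm) (u w : V)
    (huu : B u u = 0) (hww : B w w = 0) (hwu : B w u = 1) (μ : F) (hμ : μ * σ μ = 1) (x y : V) :
    B (hypScale B u w μ x) (hypScale B u w μ y) = B x y := by
  have hsl : ∀ (a : F) (x y : V), B (a • x) y = σ a * B x y := by
    intro a x y
    rw [LinearMap.map_smulₛₗ₂]
    rfl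
  have hsr : ∀ (a : F) (x y : V), B x (a • y) = a * B x y := by
    intro a x y
    rw [map_smul, smul_eq_mul]
  have huw : B u w = 1 := by
    rw [← hS.eq w u, hwu, map_one]
  have hxu : B x u = σ (B u x) := (hS.eq u x).symm
  have hxw : B x w = σ (B w x) := (hS.eq w x).symm
  rw [hypScale_apply, hypScale_apply]
  simp only [map_add, LinearMap.add_apply, hsl, hsr, huu, hww, hwu, huw, hxu, hxw, map_sub,
    map_one, map_mul, mul_zero, mul_one, add_zero, zero_add]
  linear_combination (B w y * σ (B u x) + B u y * σ (B w x)) * hμ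

/-- `hypScale` commutes with a self-adjoint operator `N` with `N u = w`, `N w = 0`. -/
theorem hypScale_comm {σ : F →+* F} (B : V →ₛₗ[σ] V →ₗ[F] F) (N : V →ₗ[F] V)
    (hN : ∀ x y, B (N x) y = B x (N y)) (u w : V) (hNu : N u = w) (hNw : N w = 0) (μ : F)
    (x : V) : N (hypScale B u w μ x) = hypScale B u w μ (N x) := by
  rw [hypScale_apply, hypScale_apply]
  simp only [map_add, map_smul, hNu, hNw, smul_zero, add_zero]
  rw [← hN w x, ← hN u x, hNw, hNu]
  simp

end

end Cfsg.Agent.H42
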