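import Mathlib
import Cfsg.Prelude.Def_Classical
import Cfsg.Prelude.Def_GeometricClasses
import Cfsg.Agent.H42.JtDefs
import Cfsg.Agent.H42.JtPar
import Cfsg.Agent.H37.JtA
import Cfsg.Agent.H37.JtK
import Cfsg.Agent.H49.Basic

set_option autoImplicit false

/-! Jordan-type obstruction for unipotent elements of orthogonal groups: assembly (helper42). -/

namespace Cfsg.Agent.H42.Jt

open Cfsg.Agent.H37.JtA Cfsg.Agent.H37.JtK

section Core

variable {F : Type*} [Field F] {V : Type*} [AddCommGroup V] [Module F V] [FiniteDimensional F V]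

theorem two_kd_eq (T : Module.End F V) (e : ℕ) (he : 0 < e) :
    2 * kd T e = jb T e + kd T (e - 1) + kd T (e + 1) := by
  obtain ⟨k, rfl⟩ : ∃ k, e = k + 1 := ⟨e - 1, by omega⟩
  have h := kd_concave T k
  unfold jb
  simp only [Nat.add_sub_cancel]
  have e2 : k + 1 + 1 = k + 2 := rfl
  rw [e2]
  omega

/-- The abstract core: a unipotent isometry `X` with Jordan type `μ` stabilising a nondegenerate
subspace `W` induces on `W` a Jordan type `ν ≤ μ` whose even parts have even multiplicity. -/
theorem jt_abstract (h2 : (2 : F) ≠ 0) (B : LinearMap.BilinForm F V) (hs : ∀ u v, B u v = B v u)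
    (X : Module.End F V) (hX : ∀ u v, B (X u) (X v) = B u v) (hXinj : Function.Injective X)
    (p : ℕ) (μ : Multiset ℕ)
    (hkd : ∀ e, kd (X - 1) e = (μ.map (fun s => min e s)).sum) (hp : (X - 1) ^ p = 0)
    (W : Submodule F V) (hWX : ∀ w ∈ W, X w ∈ W)
    (hWnd : ∀ w ∈ W, w ≠ 0 → ∃ x ∈ W, B w x ≠ 0) :
    ∃ ν : Multiset ℕ, ν ≤ μ ∧ ν.sum = Module.finrank F W ∧
      ∀ e : ℕ, Even e → Even (ν.count e) := by
  classical
  have hmapW : W.map X = W := by
    apply Submodule.eq_of_le_of_finrank_eq
    · rintro _ ⟨w, hw, rfl⟩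
      exact hWX w hw
    · exact (LinearEquiv.finrank_eq (Submodule.equivMapOfInjective X hXinj W)).symm
  have hrefl : B.IsRefl := fun u v h => by rw [hs]; exact h
  have hBW : (B.restrict W).Nondegenerate := by
    constructor
    · intro w hw
      by_contra hne
      obtain ⟨x, hx, hxne⟩ := hWnd w w.2 (fun h => hne (Subtype.ext h))
      exact hxne (hw ⟨x, hx⟩)
    · intro w hw
      by_contra hne
      obtain ⟨x, hx, hxne⟩ := hWnd w w.2 (fun h => hne (Subtype.ext h))
      apply hxne
      rw [hs]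
      exact hw ⟨x, hx⟩
  have hc : IsCompl W (B.orthogonal W) :=
    B.isCompl_orthogonal_of_restrict_nondegenerate hrefl hBW
  have hW'X : ∀ v ∈ B.orthogonal W, X v ∈ B.orthogonal W := by
    intro v hv
    rw [LinearMap.BilinForm.mem_orthogonal_iff] at hv ⊢
    intro w hw
    rw [← hmapW] at hw
    obtain ⟨w₀, hw₀, rfl⟩ := hw
    rw [hX]
    exact hv w₀ hw₀
  have hWN : ∀ w ∈ W, (X - 1) w ∈ W := fun w hw => by
    rw [LinearMap.sub_apply, Module.End.one_apply]
    exact W.sub_mem (hWX w hw) hw
  have hW'N : ∀ w ∈ B.orthogonal W, (X - 1) w ∈ B.orthogonal W := fun w hw => by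
    rw [LinearMap.sub_apply, Module.End.one_apply]
    exact (B.orthogonal W).sub_mem (hW'X w hw) hw
  have hadd := fun e => kd_isCompl (X - 1) W (B.orthogonal W) hc hWN hW'N e
  obtain ⟨NW, hNW⟩ : ∃ NW : Module.End F W, NW = (X - 1).restrict hWN := ⟨_, rfl⟩
  obtain ⟨NW', hNW'⟩ : ∃ NW' : Module.End F (B.orthogonal W), NW' = (X - 1).restrict hW'N :=
    ⟨_, rfl⟩
  rw [← hNW, ← hNW'] at hadd
  have hjbX : ∀ e, 0 < e → jb (X - 1) e = μ.count e := by
    intro e he
    have h1 := two_kd_eq (X - 1) e he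
    have h2' := min_count μ e he
    rw [hkd, hkd, hkd] at h1
    omega
  have hjbadd : ∀ e, 0 < e → jb (X - 1) e = jb NW e + jb NW' e := by
    intro e he
    have h1 := two_kd_eq (X - 1) e he
    have h2' := two_kd_eq NW e he
    have h3 := two_kd_eq NW' e he
    have a1 := hadd e
    have a2 := hadd (e - 1)
    have a3 := hadd (e + 1)
    omega
  have hNWp : NW ^ p = 0 := by
    rw [hNW, Module.End.pow_restrict]
    ext w
    simp [hp]
  have hgW : X.restrict hWX - 1 = NW := by
    rw [hNW]
    ext w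
    simp
  have hpar : ∀ j, Odd j → Even (Module.finrank F W - kd NW j) := by
    intro j hj
    have h1 := kd_odd_parity h2 (B.restrict W) (fun u v => hs _ _) hBW.1 (X.restrict hWX)
      (fun u v => hX _ _) ⟨p, by rw [hgW]; exact hNWp⟩ j hj
    rwa [hgW] at h1
  have hkdle : ∀ j, kd NW j ≤ Module.finrank F W := fun j => Submodule.finrank_le _
  have hjbeven : ∀ e, Even e → 0 < e → Even (jb NW e) := by
    intro e he he0
    have h1 := two_kd_eq NW e he0
    obtain ⟨k, hk⟩ := he
    have ho1 : Odd (e - 1) := ⟨k - 1, by omega⟩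
    have ho2 : Odd (e + 1) := ⟨k, by omega⟩
    obtain ⟨a, ha⟩ := hpar _ ho1
    obtain ⟨b, hb⟩ := hpar _ ho2
    have l1 := hkdle (e - 1)
    have l2 := hkdle (e + 1)
    rw [Nat.even_iff]
    omega
  have hcount : ∀ a, Multiset.count a
      (∑ e ∈ Finset.range p, Multiset.replicate (jb NW (e + 1)) (e + 1)) =
      if 0 < a ∧ a ≤ p then jb NW a else 0 := by
    intro a
    rw [Multiset.count_sum']
    simp only [Multiset.count_replicate]
    by_cases ha : 0 < a ∧ a ≤ p
    · rw [if_pos ha, Finset.sum_eq_single (a - 1)]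
      · have e1 : a - 1 + 1 = a := by omega
        rw [e1, if_pos rfl]
      · intro e _ hne
        rw [if_neg (by omega)]
      · intro hnot
        exfalso
        apply hnot
        rw [Finset.mem_range]
        omega
    · rw [if_neg ha]
      apply Finset.sum_eq_zero
      intro e he
      rw [Finset.mem_range] at he
      rw [if_neg (by omega)]
  refine ⟨∑ e ∈ Finset.range p, Multiset.replicate (jb NW (e + 1)) (e + 1), ?_, ?_, ?_⟩
  · rw [Multiset.le_iff_count]
    intro a
    rw [hcount]
    split_ifs with h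
    · have h1 := hjbX a h.1
      have h2' := hjbadd a h.1
      omega
    · exact Nat.zero_le _
  · have h1 : (∑ e ∈ Finset.range p, Multiset.replicate (jb NW (e + 1)) (e + 1)).sum =
        ∑ e ∈ Finset.range p, (Multiset.replicate (jb NW (e + 1)) (e + 1)).sum :=
      map_sum Multiset.sumAddMonoidHom _ _
    rw [h1, ← sum_jb NW p hNWp]
    apply Finset.sum_congr rfl
    intro e _
    rw [Multiset.sum_replicate, smul_eq_mul, mul_comm]
  · intro a ha
    rw [hcount]
    split_ifs with h
    · exact hjbeven a ha h.1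
    · exact ⟨0, rfl⟩

end Core

end Cfsg.Agent.H42.Jt
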