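import Mathlib
import Cfsg.Prelude.Def_ClassicalGeometry

set_option autoImplicit false

namespace Cfsg.Agent.H42

open Matrix

/-- Matrices with vanishing lower-left block preserve the coordinate subspace. -/
theorem blockCond_mulVec {F : Type*} [Field F] (n k : ℕ) (M : Matrix (Fin n) (Fin n) F)
    (hM : ∀ i j : Fin n, k ≤ (i : ℕ) → (j : ℕ) < k → M i j = 0)
    (v : Fin n → F) (hv : ∀ i : Fin n, k ≤ (i : ℕ) → v i = 0) :
    ∀ i : Fin n, k ≤ (i : ℕ) → (M *ᵥ v) i = 0 := by
  intro i hi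
  rw [Matrix.mulVec, dotProduct]
  apply Finset.sum_eq_zero
  intro j _
  by_cases hj : (j : ℕ) < k
  · rw [hM i j hi hj, zero_mul]
  · rw [hv j (by omega), mul_zero]

theorem blockCond_inv {F : Type*} [Field F] (n k : ℕ) (g : GL (Fin n) F)
    (hg : ∀ i j : Fin n, k ≤ (i : ℕ) → (j : ℕ) < k → (g : Matrix (Fin n) (Fin n) F) i j = 0) :
    ∀ i j : Fin n, k ≤ (i : ℕ) → (j : ℕ) < k →
      ((g⁻¹ : GL (Fin n) F) : Matrix (Fin n) (Fin n) F) i j = 0 := by
  have hbt : Matrix.BlockTriangular (g : Matrix (Fin n) (Fin n) F)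
      (fun i : Fin n => if k ≤ (i : ℕ) then (1 : ℕ) else 0) := by
    intro i j hij
    dsimp only at hij
    split_ifs at hij with h1 h2
    · omega
    · omega
    · exact hg i j (by omega) (by omega)
    · omega
  have : Invertible (g : Matrix (Fin n) (Fin n) F) := Units.invertible g
  have hbt' := Matrix.blockTriangular_inv_of_blockTriangular hbt
  intro i j hi hj
  rw [Matrix.coe_units_inv]
  apply hbt'
  have h1 : ¬ k ≤ (j : ℕ) := by omega
  simp [hi, h1]

/-- Membership in the stabiliser of the coordinate subspace `⟨e_0, …, e_{k-1}⟩`. -/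
theorem stab_mem_iff {F : Type*} [Field F] (n k : ℕ) (g : GL (Fin n) F) :
    g ∈ Cfsg.stabilizing (Cfsg.glToMat (Fin n) F)
        {v : Fin n → F | ∀ i : Fin n, k ≤ (i : ℕ) → v i = 0} ↔
      ∀ i j : Fin n, k ≤ (i : ℕ) → (j : ℕ) < k → (g : Matrix (Fin n) (Fin n) F) i j = 0 := by
  constructor
  · intro hg i j hi hj
    have h1 := (hg (Pi.single j 1)).1 (by
      intro i' hi'
      have : i' ≠ j := by
        intro h
        rw [h] at hi'
        omega
      simp [this])
    have h2 := h1 i hi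
    simpa using h2
  · intro hg v
    constructor
    · intro hv
      exact blockCond_mulVec n k _ hg v hv
    · intro hv
      have := blockCond_mulVec n k _ (blockCond_inv n k g hg) _ hv
      have h3 : ((g⁻¹ : GL (Fin n) F) : Matrix (Fin n) (Fin n) F) *ᵥ
          ((Cfsg.glToMat (Fin n) F) g *ᵥ v) = v := by
        rw [Matrix.mulVec_mulVec]
        change (((g⁻¹ : GL (Fin n) F) : Matrix (Fin n) (Fin n) F) * (g : Matrix (Fin n) (Fin n) F)) *ᵥ v = v
        rw [← Units.val_mul, inv_mul_cancel, Units.val_one, Matrix.one_mulVec]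
      rwa [h3] at this

/-- The reindexing `Fin k ⊕ Fin (n - k) ≃ Fin n`. -/
def splitEquiv (n k : ℕ) (hk : k ≤ n) : Fin k ⊕ Fin (n - k) ≃ Fin n :=
  finSumFinEquiv.trans (finCongr (Nat.add_sub_cancel' hk))

theorem splitEquiv_inl (n k : ℕ) (hk : k ≤ n) (a : Fin k) :
    ((splitEquiv n k hk (Sum.inl a) : Fin n) : ℕ) = a := by
  simp [splitEquiv]

theorem splitEquiv_inr (n k : ℕ) (hk : k ≤ n) (b : Fin (n - k)) :
    ((splitEquiv n k hk (Sum.inr b) : Fin n) : ℕ) = k + b := by
  simp [splitEquiv]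

theorem splitEquiv_symm_of_lt (n k : ℕ) (hk : k ≤ n) (i : Fin n) (hi : (i : ℕ) < k) :
    ∃ a : Fin k, (splitEquiv n k hk).symm i = Sum.inl a := by
  obtain ⟨a | b, rfl⟩ := (splitEquiv n k hk).surjective i
  · exact ⟨a, by simp⟩
  · rw [splitEquiv_inr] at hi
    omega

theorem splitEquiv_symm_of_le (n k : ℕ) (hk : k ≤ n) (i : Fin n) (hi : k ≤ (i : ℕ)) :
    ∃ b : Fin (n - k), (splitEquiv n k hk).symm i = Sum.inr b := by
  obtain ⟨a | b, rfl⟩ := (splitEquiv n k hk).surjective i
  · rw [splitEquiv_inl] at hi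
    omega
  · exact ⟨b, by simp⟩

theorem stab_blocks {F : Type*} [Field F] (n k : ℕ) (hk : k ≤ n) (g : GL (Fin n) F)
    (hg : g ∈ Cfsg.stabilizing (Cfsg.glToMat (Fin n) F)
        {v : Fin n → F | ∀ i : Fin n, k ≤ (i : ℕ) → v i = 0}) :
    (g : Matrix (Fin n) (Fin n) F).submatrix (splitEquiv n k hk) (splitEquiv n k hk)
      = fromBlocks
          ((g : Matrix (Fin n) (Fin n) F).submatrix (splitEquiv n k hk) (splitEquiv n k hk)).toBlocks₁₁
          ((g : Matrix (Fin n) (Fin n) F).submatrix (splitEquiv n k hk) (splitEquiv n k hk)).toBlocks₁₂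
          0
          ((g : Matrix (Fin n) (Fin n) F).submatrix (splitEquiv n k hk) (splitEquiv n k hk)).toBlocks₂₂ := by
  have h0 : ((g : Matrix (Fin n) (Fin n) F).submatrix (splitEquiv n k hk) (splitEquiv n k hk)).toBlocks₂₁ = 0 := by
    ext i j
    have := (stab_mem_iff n k g).1 hg (splitEquiv n k hk (Sum.inr i))
      (splitEquiv n k hk (Sum.inl j)) (by rw [splitEquiv_inr]; omega) (by rw [splitEquiv_inl]; exact j.2)
    simpa [Matrix.toBlocks₂₁] using this
  rw [← h0]
  exact (Matrix.fromBlocks_toBlocks _).symm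

theorem stab_blocks_det {F : Type*} [Field F] (n k : ℕ) (hk : k ≤ n) (g : GL (Fin n) F)
    (hg : g ∈ Cfsg.stabilizing (Cfsg.glToMat (Fin n) F)
        {v : Fin n → F | ∀ i : Fin n, k ≤ (i : ℕ) → v i = 0}) :
    ((g : Matrix (Fin n) (Fin n) F).submatrix (splitEquiv n k hk) (splitEquiv n k hk)).toBlocks₁₁.det *
      ((g : Matrix (Fin n) (Fin n) F).submatrix (splitEquiv n k hk) (splitEquiv n k hk)).toBlocks₂₂.det ≠ 0 := by
  rw [← Matrix.det_fromBlocks_zero₂₁, ← stab_blocks n k hk g hg, Matrix.det_submatrix_equiv_self]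
  exact ((Matrix.isUnit_iff_isUnit_det _).1 g.isUnit).ne_zero

/-- The parabolic is in bijection with `GL_k × GL_{n-k} × Mat_{k × (n-k)}`. -/
noncomputable def stabEquiv {F : Type*} [Field F] (n k : ℕ) (hk : k ≤ n) :
    ↥(Cfsg.stabilizing (Cfsg.glToMat (Fin n) F)
        {v : Fin n → F | ∀ i : Fin n, k ≤ (i : ℕ) → v i = 0}) ≃
      GL (Fin k) F × GL (Fin (n - k)) F × Matrix (Fin k) (Fin (n - k)) F where
  toFun g :=
    (Matrix.GeneralLinearGroup.mk'' _
        (isUnit_iff_ne_zero.2 (left_ne_zero_of_mul (stab_blocks_det n k hk g.1 g.2))),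
     Matrix.GeneralLinearGroup.mk'' _
        (isUnit_iff_ne_zero.2 (right_ne_zero_of_mul (stab_blocks_det n k hk g.1 g.2))),
     (((g : GL (Fin n) F) : Matrix (Fin n) (Fin n) F).submatrix (splitEquiv n k hk) (splitEquiv n k hk)).toBlocks₁₂)
  invFun x :=
    ⟨Matrix.GeneralLinearGroup.mk''
      ((fromBlocks (x.1 : Matrix (Fin k) (Fin k) F) x.2.2 0 (x.2.1 : Matrix (Fin (n - k)) (Fin (n - k)) F)).submatrix
        (splitEquiv n k hk).symm (splitEquiv n k hk).symm)
      (by
        rw [Matrix.det_submatrix_equiv_self, Matrix.det_fromBlocks_zero₂₁]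
        exact ((Matrix.isUnit_iff_isUnit_det _).1 x.1.isUnit).mul
          ((Matrix.isUnit_iff_isUnit_det _).1 x.2.1.isUnit)), by
      rw [stab_mem_iff]
      intro i j hi hj
      obtain ⟨b, hb⟩ := splitEquiv_symm_of_le n k hk i hi
      obtain ⟨a, ha⟩ := splitEquiv_symm_of_lt n k hk j hj
      change (fromBlocks (x.1 : Matrix (Fin k) (Fin k) F) x.2.2 0 (x.2.1 : Matrix (Fin (n - k)) (Fin (n - k)) F))
        ((splitEquiv n k hk).symm i) ((splitEquiv n k hk).symm j) = 0
      rw [hb, ha]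
      rfl⟩
  left_inv g := by
    apply Subtype.ext
    apply Units.ext
    change (fromBlocks
      (((g : GL (Fin n) F) : Matrix (Fin n) (Fin n) F).submatrix (splitEquiv n k hk) (splitEquiv n k hk)).toBlocks₁₁
      (((g : GL (Fin n) F) : Matrix (Fin n) (Fin n) F).submatrix (splitEquiv n k hk) (splitEquiv n k hk)).toBlocks₁₂
      0
      (((g : GL (Fin n) F) : Matrix (Fin n) (Fin n) F).submatrix (splitEquiv n k hk) (splitEquiv n k hk)).toBlocks₂₂).submatrix
        (splitEquiv n k hk).symm (splitEquiv n k hk).symm = _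
    rw [← stab_blocks n k hk g.1 g.2]
    ext i j
    simp
  right_inv x := by
    obtain ⟨A, D, B⟩ := x
    refine Prod.ext ?_ (Prod.ext ?_ ?_)
    · apply Units.ext
      change (((fromBlocks (A : Matrix (Fin k) (Fin k) F) B 0 (D : Matrix (Fin (n - k)) (Fin (n - k)) F)).submatrix
        (splitEquiv n k hk).symm (splitEquiv n k hk).symm).submatrix (splitEquiv n k hk) (splitEquiv n k hk)).toBlocks₁₁ = A
      ext i j
      simp [Matrix.toBlocks₁₁]
    · apply Units.ext
      change (((fromBlocks (A : Matrix (Fin k) (Fin k) F) B 0 (D : Matrix (Fin (n - k)) (Fin (n - k)) F)).submatrix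
        (splitEquiv n k hk).symm (splitEquiv n k hk).symm).submatrix (splitEquiv n k hk) (splitEquiv n k hk)).toBlocks₂₂ = D
      ext i j
      simp [Matrix.toBlocks₂₂]
    · change (((fromBlocks (A : Matrix (Fin k) (Fin k) F) B 0 (D : Matrix (Fin (n - k)) (Fin (n - k)) F)).submatrix
        (splitEquiv n k hk).symm (splitEquiv n k hk).symm).submatrix (splitEquiv n k hk) (splitEquiv n k hk)).toBlocks₁₂ = B
      ext i j
      simp [Matrix.toBlocks₁₂]

theorem card_stab {F : Type*} [Field F] [Fintype F] (n k : ℕ) (hk : k ≤ n) :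
    Nat.card ↥(Cfsg.stabilizing (Cfsg.glToMat (Fin n) F)
        {v : Fin n → F | ∀ i : Fin n, k ≤ (i : ℕ) → v i = 0}) =
      Fintype.card F ^ (k * (n - k)) * (∏ i : Fin k, (Fintype.card F ^ k - Fintype.card F ^ (i : ℕ))) *
        ∏ i : Fin (n - k), (Fintype.card F ^ (n - k) - Fintype.card F ^ (i : ℕ)) := by
  rw [Nat.card_congr (stabEquiv n k hk), Nat.card_prod, Nat.card_prod, Matrix.card_GL_field,
    Matrix.card_GL_field]
  have h1 : Nat.card (Matrix (Fin k) (Fin (n - k)) F) = Fintype.card F ^ (k * (n - k)) := by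
    rw [Nat.card_eq_fintype_card]
    change Fintype.card (Fin k → Fin (n - k) → F) = _
    rw [Fintype.card_fun, Fintype.card_fun, Fintype.card_fin, Fintype.card_fin, ← pow_mul, mul_comm]
  rw [h1]
  ring

end Cfsg.Agent.H42
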