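import Mathlib

/-!
# S2953, residual four-group configuration (R1): the abstract "Proposition A"

`V` is a TI four-group all of whose involutions are conjugate to `z`, with `C_G(u) ≤ N_G(V^h)` for
`1 ≠ u ∈ V^h`.  `Q1` has index 2 in the 2-group `T`, `z1, z2 ∈ Z(Q1)` are swapped by `T ∖ Q1`.
Then a conjugate of `V` inside `T` but not inside `Q1` is `V` itself, and `z * z1 * z2 = 1`.
-/

set_option autoImplicit false

namespace Cfsg.Agent.H42.R1

universe u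

/-- the conjugate `g X g⁻¹` -/
abbrev cj {G : Type u} [Group G] (X : Subgroup G) (g : G) : Subgroup G :=
  X.map (MulAut.conj g).toMonoidHom

theorem mem_cj {G : Type u} [Group G] (X : Subgroup G) (g y : G) :
    y ∈ cj X g ↔ ∃ x ∈ X, y = g * x * g⁻¹ := by
  constructor
  · rintro ⟨x, hx, rfl⟩
    exact ⟨x, hx, by simp [MulAut.conj_apply]⟩
  · rintro ⟨x, hx, rfl⟩
    exact ⟨x, hx, by simp [MulAut.conj_apply]⟩

/-- Proposition A (abstract form). -/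
theorem propA {G : Type u} [Group G] (V T Q1 : Subgroup G) (z z1 z2 x : G)
    (hexp : ∀ v ∈ V, v * v = 1)
    (hV2 : ∃ a ∈ V, ∃ b ∈ V, a ≠ 1 ∧ b ≠ 1 ∧ a ≠ b)
    (ha : ∀ h : G, ∀ u ∈ cj V h, u ≠ 1 →
      Subgroup.centralizer ({u} : Set G) ≤ Subgroup.normalizer ((cj V h : Subgroup G) : Set G))
    (hb : ∀ h : G, V ⊓ cj V h ≠ ⊥ → cj V h = V)
    (hc : ∀ u ∈ V, u ≠ 1 → ∃ g : G, u = g * z * g⁻¹)
    (hQT : Q1 ≤ T)
    (hidx : ∀ a ∈ T, ∀ b ∈ T, a ∉ Q1 → b ∉ Q1 → a * b ∈ Q1)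
    (hz1Q : z1 ∈ Q1) (hz2Q : z2 ∈ Q1)
    (hQz1 : ∀ q ∈ Q1, q * z1 = z1 * q) (hQz2 : ∀ q ∈ Q1, q * z2 = z2 * q)
    (hswap : ∀ t ∈ T, t ∉ Q1 → t * z1 * t⁻¹ = z2)
    (hz1 : z1 * z1 = 1) (hz2 : z2 * z2 = 1) (hne : z1 ≠ z2)
    (hzV : z ∈ V)
    (hxz : x * z = z * x) (hxT : ∀ t ∈ T, x * t * x⁻¹ ∈ T) (hxT' : ∀ t ∈ T, x⁻¹ * t * x ∈ T)
    (hh : z * z1 * z2 ≠ 1 → ∀ y ∈ T, (∀ t ∈ T, t * y = y * t) → y * y = 1 →
      y = 1 ∨ y = z ∨ y = z1 * z2 ∨ y = z * z1 * z2)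
    (hg : z * z1 * z2 ≠ 1 → ∀ g : G, g * z * g⁻¹ ≠ z * z1 * z2)
    (hi : z * z1 * z2 ≠ 1 → x * (z * z1 * z2) * x⁻¹ ≠ z * z1 * z2) :
    ∀ h : G, cj V h ≤ T → ¬ cj V h ≤ Q1 → cj V h = V ∧ z * z1 * z2 = 1 := by
  intro h hVT hVQ
  obtain ⟨a, haV, b, hbV, ha1, hb1, hab⟩ := hV2
  have ha'V : h * a * h⁻¹ ∈ cj V h := (mem_cj V h _).2 ⟨a, haV, rfl⟩
  have hb'V : h * b * h⁻¹ ∈ cj V h := (mem_cj V h _).2 ⟨b, hbV, rfl⟩
  have ha'1 : h * a * h⁻¹ ≠ 1 := by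
    intro h0; apply ha1
    have : a = h⁻¹ * (h * a * h⁻¹) * h := by group
    rw [this, h0]; group
  have hb'1 : h * b * h⁻¹ ≠ 1 := by
    intro h0; apply hb1
    have : b = h⁻¹ * (h * b * h⁻¹) * h := by group
    rw [this, h0]; group
  have hab' : h * a * h⁻¹ ≠ h * b * h⁻¹ := by
    intro h0; apply hab
    have h1 : a = h⁻¹ * (h * a * h⁻¹) * h := by group
    have h2 : b = h⁻¹ * (h * b * h⁻¹) * h := by group
    rw [h1, h2, h0]
  have hexp' : ∀ v ∈ cj V h, v * v = 1 := by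
    intro v hv
    obtain ⟨v0, hv0, rfl⟩ := (mem_cj V h v).1 hv
    have h3 := hexp v0 hv0
    calc h * v0 * h⁻¹ * (h * v0 * h⁻¹) = h * (v0 * v0) * h⁻¹ := by group
      _ = 1 := by rw [h3]; group
  obtain ⟨u, huV, huQ, hu1⟩ : ∃ u, u ∈ cj V h ∧ u ∈ Q1 ∧ u ≠ 1 := by
    by_cases h1 : h * a * h⁻¹ ∈ Q1
    · exact ⟨_, ha'V, h1, ha'1⟩
    · by_cases h2 : h * b * h⁻¹ ∈ Q1
      · exact ⟨_, hb'V, h2, hb'1⟩
      · refine ⟨h * a * h⁻¹ * (h * b * h⁻¹), (cj V h).mul_mem ha'V hb'V,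
          hidx _ (hVT ha'V) _ (hVT hb'V) h1 h2, ?_⟩
        intro h0
        apply hab'
        have h3 := hexp' _ ha'V
        calc h * a * h⁻¹ = h * a * h⁻¹ * (h * a * h⁻¹ * (h * b * h⁻¹)) := by rw [h0, mul_one]
          _ = (h * a * h⁻¹ * (h * a * h⁻¹)) * (h * b * h⁻¹) := by group
          _ = h * b * h⁻¹ := by rw [h3, one_mul]
  obtain ⟨v, hvV, hvQ⟩ : ∃ v, v ∈ cj V h ∧ v ∉ Q1 := by
    by_contra h0
    push_neg at h0
    exact hVQ (fun y hy => h0 y hy)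
  have hvT : v ∈ T := hVT hvV
  have hz1N : z1 ∈ Subgroup.normalizer ((cj V h : Subgroup G) : Set G) := by
    apply ha h u huV hu1
    rw [Subgroup.mem_centralizer_iff]
    intro y hy
    rw [Set.mem_singleton_iff] at hy
    subst hy
    exact hQz1 y huQ
  have h5 : z1 * v * z1⁻¹ ∈ cj V h := (Subgroup.mem_normalizer_iff.mp hz1N v).mp hvV
  have h6 : v * z1 * v⁻¹ = z2 := hswap v hvT hvQ
  have hz2inv : z2⁻¹ = z2 := inv_eq_of_mul_eq_one_left hz2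
  have hz1inv : z1⁻¹ = z1 := inv_eq_of_mul_eq_one_left hz1
  have hvinv : v⁻¹ ∈ cj V h := (cj V h).inv_mem hvV
  have hw : z1 * z2 ∈ cj V h := by
    have h7 : z1 * v * z1⁻¹ * v⁻¹ ∈ cj V h := (cj V h).mul_mem h5 hvinv
    have h8 : z1 * v * z1⁻¹ * v⁻¹ = z1 * (v * z1 * v⁻¹)⁻¹ := by group
    rw [h8, h6, hz2inv] at h7
    exact h7
  have hcomm12 : z2 * z1 = z1 * z2 := hQz1 z2 hz2Q
  have hw1 : z1 * z2 ≠ 1 := by
    intro h0
    apply hne
    have h1 : z1 = z2⁻¹ := eq_inv_of_mul_eq_one_left h0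
    rw [h1, hz2inv]
  by_cases hc1 : z * z1 * z2 = 1
  · refine ⟨?_, hc1⟩
    apply hb
    have hzw : z = z1 * z2 := by
      have h1 : z = (z1 * z2)⁻¹ := by
        rw [eq_inv_iff_mul_eq_one, ← mul_assoc]; exact hc1
      rw [h1, mul_inv_rev, hz1inv, hz2inv, hcomm12]
    intro h0
    have hmem : z ∈ V ⊓ cj V h := ⟨hzV, by rw [hzw]; exact hw⟩
    rw [h0] at hmem
    have h1 : z = 1 := (Subgroup.mem_bot).1 hmem
    exact hw1 (by rw [← hzw]; exact h1)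
  · exfalso
    have hwT : z1 * z2 ∈ T := T.mul_mem (hQT hz1Q) (hQT hz2Q)
    have hww : z1 * z2 * (z1 * z2) = 1 := by
      calc z1 * z2 * (z1 * z2) = z1 * (z2 * z1) * z2 := by group
        _ = z1 * (z1 * z2) * z2 := by rw [hcomm12]
        _ = (z1 * z1) * (z2 * z2) := by group
        _ = 1 := by rw [hz1, hz2, one_mul]
    have hwc : ∀ t ∈ T, t * (z1 * z2) = z1 * z2 * t := by
      intro t ht
      by_cases htQ : t ∈ Q1
      · have e1 := hQz1 t htQ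
        have e2 := hQz2 t htQ
        calc t * (z1 * z2) = (t * z1) * z2 := by group
          _ = z1 * (t * z2) := by rw [e1]; group
          _ = z1 * z2 * t := by rw [e2]; group
      · have e1 : t * z1 * t⁻¹ = z2 := hswap t ht htQ
        have htinv : t⁻¹ ∈ T := T.inv_mem ht
        have htinvQ : t⁻¹ ∉ Q1 := fun h0 => htQ (by simpa using Q1.inv_mem h0)
        have e2 : t⁻¹ * z1 * t⁻¹⁻¹ = z2 := hswap t⁻¹ htinv htinvQ
        rw [inv_inv] at e2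
        have f1 : t * z1 = z2 * t := by
          calc t * z1 = (t * z1 * t⁻¹) * t := by group
            _ = z2 * t := by rw [e1]
        have f2 : t * z2 = z1 * t := by
          calc t * z2 = t * (t⁻¹ * z1 * t) := by rw [e2]
            _ = z1 * t := by group
        calc t * (z1 * z2) = (t * z1) * z2 := by group
          _ = z2 * (t * z2) := by rw [f1]; group
          _ = z2 * z1 * t := by rw [f2]; group
          _ = z1 * z2 * t := by rw [hcomm12]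
    have hyT : x * (z1 * z2) * x⁻¹ ∈ T := hxT _ hwT
    have hyc : ∀ t ∈ T, t * (x * (z1 * z2) * x⁻¹) = x * (z1 * z2) * x⁻¹ * t := by
      intro t ht
      have h1 := hwc (x⁻¹ * t * x) (hxT' t ht)
      calc t * (x * (z1 * z2) * x⁻¹) = x * ((x⁻¹ * t * x) * (z1 * z2)) * x⁻¹ := by group
        _ = x * (z1 * z2 * (x⁻¹ * t * x)) * x⁻¹ := by rw [h1]
        _ = x * (z1 * z2) * x⁻¹ * t := by group
    have hyy : x * (z1 * z2) * x⁻¹ * (x * (z1 * z2) * x⁻¹) = 1 := by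
      calc x * (z1 * z2) * x⁻¹ * (x * (z1 * z2) * x⁻¹)
          = x * (z1 * z2 * (z1 * z2)) * x⁻¹ := by group
        _ = 1 := by rw [hww]; group
    have hcw : z * z1 * z2 = z * (z1 * z2) := by group
    rcases hh hc1 _ hyT hyc hyy with h0 | h0 | h0 | h0
    · apply hw1
      have h1 : z1 * z2 = x⁻¹ * (x * (z1 * z2) * x⁻¹) * x := by group
      rw [h1, h0]; group
    · apply hc1
      have h1 : z1 * z2 = x⁻¹ * (x * (z1 * z2) * x⁻¹) * x := by group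
      have h2 : x⁻¹ * z * x = z := by
        calc x⁻¹ * z * x = x⁻¹ * (z * x) := by group
          _ = x⁻¹ * (x * z) := by rw [hxz]
          _ = z := by group
      have h3 : z1 * z2 = z := by rw [h1, h0, h2]
      rw [hcw, h3]
      exact hexp z hzV
    · apply hi hc1
      have h2 : x * z * x⁻¹ = z := by
        calc x * z * x⁻¹ = z * x * x⁻¹ := by rw [hxz]
          _ = z := by group
      calc x * (z * z1 * z2) * x⁻¹ = x * (z * (z1 * z2)) * x⁻¹ := by rw [hcw]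
        _ = (x * z * x⁻¹) * (x * (z1 * z2) * x⁻¹) := by group
        _ = z * (z1 * z2) := by rw [h2, h0]
        _ = z * z1 * z2 := hcw.symm
    · obtain ⟨w0, hw0V, hw0⟩ := (mem_cj V h _).1 hw
      have hw01 : w0 ≠ 1 := by
        intro h1; apply hw1; rw [hw0, h1]; group
      obtain ⟨g0, hg0⟩ := hc w0 hw0V hw01
      apply hg hc1 (x * h * g0)
      rw [← h0, hw0, hg0]
      group

end Cfsg.Agent.H42.R1
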