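import Mathlib
import Cfsg.Prelude.Def_ClassicalGeometry
import Cfsg.Agent.H42.Parabolic

set_option autoImplicit false

namespace Cfsg.Agent.H42

open Matrix

/-- The rank-one update `1 + u wᵀ`. -/
def rk1 {F : Type*} [Field F] {n : ℕ} (u w : Fin n → F) : Matrix (Fin n) (Fin n) F :=
  1 + Matrix.vecMulVec u w

theorem rk1_apply {F : Type*} [Field F] {n : ℕ} (u w : Fin n → F) (i j : Fin n) :
    rk1 u w i j = (if i = j then 1 else 0) + u i * w j := by
  simp [rk1, Matrix.one_apply, Matrix.vecMulVec_apply]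

theorem det_rk1 {F : Type*} [Field F] {n : ℕ} (u w : Fin n → F) :
    (rk1 u w).det = 1 + w ⬝ᵥ u := by
  rw [rk1, Matrix.vecMulVec_eq (ι := Unit), Matrix.det_one_add_replicateCol_mul_replicateRow]

theorem rk1_mulVec {F : Type*} [Field F] {n : ℕ} (u w x : Fin n → F) :
    rk1 u w *ᵥ x = x + (w ⬝ᵥ x) • u := by
  rw [rk1, Matrix.add_mulVec, Matrix.one_mulVec, Matrix.vecMulVec_mulVec, op_smul_eq_smul]

theorem rk1_mul_rk1 {F : Type*} [Field F] {n : ℕ} (u u' w : Fin n → F) (h : w ⬝ᵥ u' = 0) :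
    rk1 u w * rk1 u' w = rk1 (u + u') w := by
  rw [rk1, rk1, rk1, add_mul, mul_add, mul_add, one_mul, mul_one, one_mul,
    Matrix.vecMulVec_mul_vecMulVec, h, zero_smul, Matrix.add_vecMulVec]
  have : Matrix.vecMulVec u (0 : Fin n → F) = 0 := by
    ext i j
    simp [Matrix.vecMulVec_apply]
  rw [this]
  abel

theorem rk1_conj {F : Type*} [Field F] {n : ℕ} (g : Matrix (Fin n) (Fin n) F) (b j : Fin n) :
    g * rk1 (Pi.single b 1) (g.row j) = rk1 (g *ᵥ Pi.single b 1) (Pi.single j 1) * g := by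
  rw [rk1, rk1, mul_add, add_mul, mul_one, one_mul, Matrix.mul_vecMulVec, Matrix.vecMulVec_mul,
    Matrix.single_one_vecMul]

theorem transvection_eq_rk1 {F : Type*} [Field F] {n : ℕ} (i j : Fin n) (c : F) :
    Matrix.transvection i j c = rk1 (Pi.single i c) (Pi.single j 1) := by
  ext r s
  rw [rk1_apply, Matrix.transvection, Matrix.add_apply, Matrix.one_apply, Matrix.single_apply]
  by_cases h1 : i = r <;> by_cases h2 : j = s <;> simp [h1, h2, Pi.single_apply, eq_comm]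

theorem exists_GL_of_det_ne_zero {F : Type*} [Field F] {n : ℕ} (M : Matrix (Fin n) (Fin n) F)
    (h : M.det ≠ 0) : ∃ g : GL (Fin n) F, (g : Matrix (Fin n) (Fin n) F) = M :=
  ⟨Matrix.GeneralLinearGroup.mk'' M (isUnit_iff_ne_zero.2 h), rfl⟩

/-- Block criterion for a rank-one update to lie in the parabolic. -/
theorem rk1_mem_stab {F : Type*} [Field F] (n k : ℕ) (u w : Fin n → F) (g : GL (Fin n) F)
    (hg : (g : Matrix (Fin n) (Fin n) F) = rk1 u w)
    (hcond : ∀ i j : Fin n, k ≤ (i : ℕ) → (j : ℕ) < k → u i * w j = 0) :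
    g ∈ Cfsg.stabilizing (Cfsg.glToMat (Fin n) F)
        {v : Fin n → F | ∀ i : Fin n, k ≤ (i : ℕ) → v i = 0} := by
  rw [stab_mem_iff]
  intro i j hi hj
  rw [hg, rk1_apply, hcond i j hi hj]
  have : i ≠ j := by
    intro h
    rw [h] at hi
    omega
  simp [this]

end Cfsg.Agent.H42
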