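import Mathlib
import Cfsg.Prelude.Def_ClassicalGeometry
import Cfsg.Agent.H17.Herm
import Cfsg.Agent.H42.HermCent

set_option autoImplicit false

namespace Cfsg.Agent.H42

open Matrix Cfsg.Agent.H17

section

variable {F : Type*} [Field F] [Fintype F] {q : ℕ}

/-- The Frobenius `x ↦ x^q` as a ring hom (after helper17's `frobHom`). -/
def frobH (hF : Fintype.card F = q ^ 2) : F →+* F where
  toFun a := a ^ q
  map_one' := one_pow q
  map_mul' a b := mul_pow a b q
  map_zero' := zero_pow (by have := two_le_of_card_sq hF; omega)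
  map_add' a b := frob_add hF a b

theorem frobH_apply (hF : Fintype.card F = q ^ 2) (a : F) : frobH hF a = a ^ q := rfl

theorem frobH_invol (hF : Fintype.card F = q ^ 2) (a : F) : frobH hF (frobH hF a) = a :=
  frob_frob hF a

theorem frobH_ne_id (hF : Fintype.card F = q ^ 2) : frobH hF ≠ RingHom.id F := by
  intro h
  have hq := two_le_of_card_sq hF
  have h1 : ∀ a : F, a ^ q = a := fun a => by
    have := congrArg (fun f : F →+* F => f a) h
    exact this
  have h2 : ∀ x : Fˣ, x ^ (q - 1) = 1 := by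
    intro x
    apply Units.ext
    rw [Units.val_pow_eq_pow_val, Units.val_one]
    have h3 := h1 (x : F)
    have h4 : (x : F) ^ (q - 1) * (x : F) = (x : F) := by
      rw [← pow_succ, Nat.sub_add_cancel (by omega)]
      exact h3
    exact mul_right_cancel₀ x.ne_zero (by rw [h4, one_mul])
  have h5 := (FiniteField.forall_pow_eq_one_iff F (q - 1)).mp h2
  rw [hF] at h5
  have h6 := Nat.le_of_dvd (by omega) h5
  have h8 : q * 2 ≤ q ^ 2 := by nlinarith
  obtain ⟨Q, hQ⟩ : ∃ Q, Q = q ^ 2 := ⟨_, rfl⟩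
  rw [← hQ] at h6 h8
  omega

/-- The sesquilinear form `(x, y) ↦ hermForm y x`. -/
def hermS (hF : Fintype.card F = q ^ 2) (n : ℕ) :
    (Fin n → F) →ₛₗ[frobH hF] (Fin n → F) →ₗ[F] F :=
  LinearMap.mk₂'ₛₗ (frobH hF) (RingHom.id F) (fun x y => Cfsg.hermForm n F q y x)
    (fun x x' y => hermForm_add_right n hF y x x')
    (fun c x y => by rw [hermForm_smul_right]; rfl)
    (fun x y y' => hermForm_add_left n y y' x)
    (fun c x y => by rw [hermForm_smul_left]; rfl)

theorem hermS_apply (hF : Fintype.card F = q ^ 2) (n : ℕ) (x y : Fin n → F) :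
    hermS hF n x y = Cfsg.hermForm n F q y x := rfl

theorem hermS_isSymm (hF : Fintype.card F = q ^ 2) (n : ℕ) : (hermS hF n).IsSymm :=
  ⟨fun x y => by
    rw [hermS_apply, hermS_apply, frobH_apply, hermForm_conj n hF]⟩

theorem hermS_nondegenerate (hF : Fintype.card F = q ^ 2) (n : ℕ) :
    (hermS hF n).Nondegenerate := by
  have hq := two_le_of_card_sq hF
  constructor
  · intro x hx
    ext i
    have := hx (Pi.single i 1)
    rw [hermS_apply, hermForm_single_left] at this
    exact (pow_eq_zero_iff (by omega)).mp this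
  · intro y hy
    ext i
    have := hy (Pi.single i 1)
    rw [hermS_apply, hermForm_single_right n hF] at this
    exact this

/-- The operator `x ↦ A x - x` (general index). -/
noncomputable def nOpU {n : ℕ} (A : Matrix (Fin n) (Fin n) F) : (Fin n → F) →ₗ[F] (Fin n → F) :=
  (A - 1).mulVecLin

theorem nOpU_apply {n : ℕ} (A : Matrix (Fin n) (Fin n) F) (x : Fin n → F) :
    nOpU A x = A *ᵥ x - x := by
  rw [nOpU, Matrix.mulVecLin_apply, Matrix.sub_mulVec, Matrix.one_mulVec]

theorem nOpU_selfadj (hF : Fintype.card F = q ^ 2) {n : ℕ} (A : Matrix (Fin n) (Fin n) F)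
    (hA : ∀ u v, Cfsg.hermForm n F q (A *ᵥ u) (A *ᵥ v) = Cfsg.hermForm n F q u v)
    (hAA : A * A = 1) (x y : Fin n → F) :
    hermS hF n (nOpU A x) y = hermS hF n x (nOpU A y) := by
  have h1 : Cfsg.hermForm n F q y (A *ᵥ x) = Cfsg.hermForm n F q (A *ᵥ y) x := by
    have h2 := hA y (A *ᵥ x)
    rw [Matrix.mulVec_mulVec, hAA, Matrix.one_mulVec] at h2
    exact h2.symm
  rw [nOpU_apply, nOpU_apply, map_sub, map_sub, LinearMap.sub_apply, hermS_apply, hermS_apply,
    hermS_apply, h1]

theorem nOpU_sq [CharP F 2] {n : ℕ} (A : Matrix (Fin n) (Fin n) F) (hAA : A * A = 1)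
    (x : Fin n → F) : nOpU A (nOpU A x) = 0 := by
  rw [nOpU_apply, nOpU_apply, Matrix.mulVec_sub, Matrix.mulVec_mulVec, hAA, Matrix.one_mulVec]
  have h2 : (2 : F) = 0 := CharTwo.two_eq_zero
  have h3 : x - A *ᵥ x - (A *ᵥ x - x) = (2 : F) • (x - A *ᵥ x) := by
    rw [two_smul]
    abel
  rw [h3, h2, zero_smul]

/-- The determinant of a matrix preserving the Hermitian form has norm one. -/
theorem det_norm_of_preserves (hF : Fintype.card F = q ^ 2) {n : ℕ} (M : Matrix (Fin n) (Fin n) F)
    (hM : ∀ u v, Cfsg.hermForm n F q (M *ᵥ u) (M *ᵥ v) = Cfsg.hermForm n F q u v) :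
    M.det ^ (q + 1) = 1 := by
  have hq := two_le_of_card_sq hF
  have h1 : Mᵀ * (frobH hF).mapMatrix M = 1 := by
    ext i j
    have h2 := hM (Pi.single i 1) (Pi.single j 1)
    rw [hermForm_single_left] at h2
    rw [Matrix.mul_apply]
    have h3 : Cfsg.hermForm n F q (M *ᵥ Pi.single i 1) (M *ᵥ Pi.single j 1) =
        ∑ k, Mᵀ i k * (frobH hF).mapMatrix M k j := by
      unfold Cfsg.hermForm
      apply Finset.sum_congr rfl
      intro k _
      rw [Matrix.mulVec_single_one, Matrix.mulVec_single_one]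
      rfl
    rw [← h3, h2, Matrix.one_apply, Pi.single_apply]
    by_cases hij : i = j
    · simp [hij]
    · simp [hij, zero_pow (by omega : q ≠ 0)]
  have h4 := congrArg Matrix.det h1
  rw [Matrix.det_mul, Matrix.det_transpose, ← RingHom.map_det, Matrix.det_one, frobH_apply] at h4
  rw [pow_succ, mul_comm]
  exact h4

end

end Cfsg.Agent.H42
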