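import Mathlib
import Cfsg.Prelude.Def_ClassicalGeometry
import Cfsg.Agent.H42.SUBasic

set_option autoImplicit false

namespace Cfsg.Agent.H42

open Matrix Cfsg.Agent.H17

section

variable {F : Type*} [Field F] [Fintype F] {q : ℕ}

theorem mat_ext_mulVec' {n : ℕ} {A B : Matrix (Fin n) (Fin n) F} (h : ∀ x, A *ᵥ x = B *ᵥ x) :
    A = B := by
  ext i j
  have := congrFun (h (Pi.single j 1)) i
  simpa [Matrix.mulVec_single_one] using this

/-- The matrix of `hypScale` for the Hermitian form. -/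
noncomputable def hypMat (n : ℕ) (q : ℕ) (u w : Fin n → F) (μ : F) : Matrix (Fin n) (Fin n) F :=
  1 + (Matrix.of fun i (k : Fin 2) => (μ - 1) * (if k = 0 then u i else w i)) *
    (Matrix.of fun (k : Fin 2) j => if k = 0 then w j ^ q else u j ^ q)

theorem hypMat_mulVec (hF : Fintype.card F = q ^ 2) (n : ℕ) (u w : Fin n → F) (μ : F)
    (x : Fin n → F) : hypMat n q u w μ *ᵥ x = hypScale (hermS hF n) u w μ x := by
  rw [hypScale_apply, hypMat, Matrix.add_mulVec, Matrix.one_mulVec, ← Matrix.mulVec_mulVec]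
  congr 1
  ext i
  simp only [Matrix.mulVec, dotProduct, Fin.sum_univ_two, Matrix.of_apply, hermS_apply,
    Cfsg.hermForm, Pi.smul_apply, Pi.add_apply, smul_eq_mul, if_true]
  simp only [Fin.isValue, one_ne_zero, if_false]
  have e1 : ∑ j, w j ^ q * x j = ∑ j, x j * w j ^ q :=
    Finset.sum_congr rfl (fun j _ => mul_comm _ _)
  have e2 : ∑ j, u j ^ q * x j = ∑ j, x j * u j ^ q :=
    Finset.sum_congr rfl (fun j _ => mul_comm _ _)
  rw [e1, e2]
  ring

theorem hypMat_det (hF : Fintype.card F = q ^ 2) (n : ℕ) (u w : Fin n → F) (μ : F)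
    (huu : hermS hF n u u = 0) (hww : hermS hF n w w = 0) (hwu : hermS hF n w u = 1)
    (huw : hermS hF n u w = 1) :
    (hypMat n q u w μ).det = μ ^ 2 := by
  rw [hypMat, Matrix.det_one_add_mul_comm, Matrix.det_fin_two]
  simp only [Matrix.add_apply, Matrix.mul_apply, Matrix.of_apply, Matrix.one_apply, if_true]
  simp only [Fin.isValue, one_ne_zero, zero_ne_one, if_false, if_true]
  rw [hermS_apply, Cfsg.hermForm] at huu hww hwu huw
  have e1 : ∑ j, w j ^ q * ((μ - 1) * u j) = (μ - 1) * ∑ j, u j * w j ^ q := by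
    rw [Finset.mul_sum]
    exact Finset.sum_congr rfl (fun j _ => by ring)
  have e2 : ∑ j, w j ^ q * ((μ - 1) * w j) = (μ - 1) * ∑ j, w j * w j ^ q := by
    rw [Finset.mul_sum]
    exact Finset.sum_congr rfl (fun j _ => by ring)
  have e3 : ∑ j, u j ^ q * ((μ - 1) * u j) = (μ - 1) * ∑ j, u j * u j ^ q := by
    rw [Finset.mul_sum]
    exact Finset.sum_congr rfl (fun j _ => by ring)
  have e4 : ∑ j, u j ^ q * ((μ - 1) * w j) = (μ - 1) * ∑ j, w j * u j ^ q := by
    rw [Finset.mul_sum]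
    exact Finset.sum_congr rfl (fun j _ => by ring)
  rw [e1, e2, e3, e4, huu, hww, hwu, huw]
  ring

/-- `q` is even when `F` has characteristic two. -/
theorem q_even_of_char_two [CharP F 2] (hF : Fintype.card F = q ^ 2) : 2 ∣ q := by
  have h1 : ((Fintype.card F : ℕ) : F) = 0 := Nat.cast_card_eq_zero F
  have h2 : 2 ∣ Fintype.card F := (CharP.cast_eq_zero_iff F 2 _).1 h1
  rw [hF] at h2
  exact Nat.Prime.dvd_of_dvd_pow Nat.prime_two h2

/-- Main conjugation lemma: two unitary involutions (char 2) with the same rank of `A - 1` are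
conjugate under a unitary matrix of determinant one. -/
theorem su_conj_of_rank [CharP F 2] (hF : Fintype.card F = q ^ 2) {n : ℕ}
    (A B' : Matrix (Fin n) (Fin n) F)
    (hA : ∀ u v, Cfsg.hermForm n F q (A *ᵥ u) (A *ᵥ v) = Cfsg.hermForm n F q u v)
    (hB : ∀ u v, Cfsg.hermForm n F q (B' *ᵥ u) (B' *ᵥ v) = Cfsg.hermForm n F q u v)
    (hAA : A * A = 1) (hBB : B' * B' = 1) (hB1 : B' ≠ 1)
    (hrank : (A - 1).rank = (B' - 1).rank) :
    ∃ C : Matrix (Fin n) (Fin n) F, C.det = 1 ∧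
      (∀ u v, Cfsg.hermForm n F q (C *ᵥ u) (C *ᵥ v) = Cfsg.hermForm n F q u v) ∧
      C * A = B' * C := by
  have hσ := frobH_ne_id hF
  have hσ2 := frobH_invol hF
  have hS := hermS_isSymm hF n
  have hnd := hermS_nondegenerate hF n
  have hN₁ := nOpU_selfadj hF A hA hAA
  have hN₂ := nOpU_selfadj hF B' hB hBB
  have hsq₁ := nOpU_sq A hAA
  have hsq₂ := nOpU_sq B' hBB
  obtain ⟨r₁, t₁, hP₁⟩ := herm_pres_exists (frobH hF) hσ hσ2 (hermS hF n) hS hnd (nOpU A) hN₁
  obtain ⟨r₂, t₂, hP₂⟩ := herm_pres_exists (frobH hF) hσ hσ2 (hermS hF n) hS hnd (nOpU B') hN₂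
  have hr₁ := herm_pres_finrank (hermS hF n) (nOpU A) hN₁ t₁ hP₁
  have hr₂ := herm_pres_finrank (hermS hF n) (nOpU B') hN₂ t₂ hP₂
  have hr : r₁ = r₂ := by
    rw [← hr₁, ← hr₂]
    exact hrank
  subst hr
  obtain ⟨g, hg, hgN⟩ := herm_pres_conj (frobH hF) hσ hσ2 (hermS hF n) hS hnd (nOpU A) (nOpU B')
    hN₁ hN₂ hsq₁ hsq₂ t₁ t₂ hP₁ hP₂
  -- the matrix of g
  obtain ⟨G, hGdef⟩ : ∃ G : Matrix (Fin n) (Fin n) F, G = LinearMap.toMatrix' (g : (Fin n → F) →ₗ[F] (Fin n → F)) := ⟨_, rfl⟩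
  have hGv : ∀ x, G *ᵥ x = g x := by
    intro x
    rw [hGdef, ← Matrix.toLin'_apply, Matrix.toLin'_toMatrix']
    rfl
  have hGpres : ∀ u v, Cfsg.hermForm n F q (G *ᵥ u) (G *ᵥ v) = Cfsg.hermForm n F q u v := by
    intro u v
    rw [hGv, hGv, ← hermS_apply hF, hg, hermS_apply]
  have hGA : G * A = B' * G := by
    apply mat_ext_mulVec'
    intro x
    have h1 := hgN x
    rw [nOpU_apply, nOpU_apply, map_sub] at h1
    rw [← Matrix.mulVec_mulVec, ← Matrix.mulVec_mulVec, hGv, hGv]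
    exact (sub_left_inj.1 h1).symm
  -- determinant
  have hδ := det_norm_of_preserves hF G hGpres
  obtain ⟨k, hk⟩ := q_even_of_char_two hF
  have hδ0 : G.det ≠ 0 := by
    intro h0
    rw [h0, zero_pow (by omega)] at hδ
    exact zero_ne_one hδ
  have hδi : (G.det)⁻¹ ^ (q + 1) = 1 := by
    rw [inv_pow, hδ, inv_one]
  obtain ⟨μ, hμdef⟩ : ∃ μ : F, μ = (G.det)⁻¹ ^ (k + 1) := ⟨_, rfl⟩
  have hμ2 : μ ^ 2 = (G.det)⁻¹ := by
    rw [hμdef, ← pow_mul]
    have e : (k + 1) * 2 = (q + 1) + 1 := by omega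
    rw [e, pow_succ, hδi, one_mul]
  have hμσ : μ * frobH hF μ = 1 := by
    rw [frobH_apply, ← pow_succ', hμdef, ← pow_mul, mul_comm, pow_mul, hδi, one_pow]
  -- r ≥ 1
  have hrpos : 0 < r₁ := by
    rcases Nat.eq_zero_or_pos r₁ with h0 | h0
    · exfalso
      subst h0
      apply hB1
      apply mat_ext_mulVec'
      intro x
      have h1 := hP₂.2 x
      rw [Finset.univ_eq_empty, Finset.sum_empty, nOpU_apply] at h1
      rw [Matrix.one_mulVec]
      exact sub_eq_zero.1 h1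
    · exact h0
  obtain ⟨u, hu⟩ : ∃ u, u = t₂ ⟨0, hrpos⟩ := ⟨_, rfl⟩
  obtain ⟨w, hw⟩ : ∃ w, w = nOpU B' u := ⟨_, rfl⟩
  have hwu : hermS hF n w u = 1 := by
    have := hP₂.1 ⟨0, hrpos⟩ ⟨0, hrpos⟩
    rw [if_pos rfl] at this
    rw [hw, hu]
    exact this
  have hNw : nOpU B' w = 0 := by
    rw [hw]
    exact hsq₂ u
  have hww : hermS hF n w w = 0 := by
    rw [hw, hN₂, hsq₂, map_zero]
  have huw : hermS hF n u w = 1 := by
    rw [← hS.eq w u, hwu, map_one]
  have hc : frobH hF (hermS hF n u u) = hermS hF n u u := hS.eq u u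
  obtain ⟨l, hl⟩ := exists_trace_eq (frobH hF) hσ hσ2 _ hc
  obtain ⟨u', hu'⟩ : ∃ u', u' = u + l • w := ⟨_, rfl⟩
  have hsl : ∀ (a : F) (x y : Fin n → F), hermS hF n (a • x) y = frobH hF a * hermS hF n x y := by
    intro a x y
    rw [LinearMap.map_smulₛₗ₂]
    rfl
  have hu'u' : hermS hF n u' u' = 0 := by
    rw [hu']
    simp only [map_add, LinearMap.add_apply, hsl, map_smul, smul_eq_mul, hww, huw, hwu, mul_zero,
      mul_one, add_zero]
    rw [← hl]
    have h2 : (2 : F) = 0 := CharTwo.two_eq_zero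
    linear_combination (l + frobH hF l) * h2
  have hwu' : hermS hF n w u' = 1 := by
    rw [hu']
    simp only [map_add, map_smul, smul_eq_mul, hww, hwu, mul_zero, add_zero]
  have hu'w : hermS hF n u' w = 1 := by
    rw [← hS.eq w u', hwu', map_one]
  have hNu' : nOpU B' u' = w := by
    rw [hu', map_add, map_smul, hNw, smul_zero, add_zero, hw]
  -- the correcting element
  obtain ⟨Z, hZdef⟩ : ∃ Z, Z = hypMat n q u' w μ := ⟨_, rfl⟩
  have hZv : ∀ x, Z *ᵥ x = hypScale (hermS hF n) u' w μ x := by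
    intro x
    rw [hZdef, hypMat_mulVec hF]
  have hZpres : ∀ x y, Cfsg.hermForm n F q (Z *ᵥ x) (Z *ᵥ y) = Cfsg.hermForm n F q x y := by
    intro x y
    rw [hZv, hZv, ← hermS_apply hF, hypScale_isom (hermS hF n) hS u' w hu'u' hww hwu' μ hμσ,
      hermS_apply]
  have hZdet : Z.det = μ ^ 2 := by
    rw [hZdef]
    exact hypMat_det hF n u' w μ hu'u' hww hwu' hu'w
  have hZB : Z * B' = B' * Z := by
    apply mat_ext_mulVec'
    intro x
    have h1 := hypScale_comm (hermS hF n) (nOpU B') hN₂ u' w hNu' hNw μ x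
    rw [nOpU_apply, nOpU_apply, map_sub] at h1
    rw [← Matrix.mulVec_mulVec, ← Matrix.mulVec_mulVec, hZv, hZv]
    exact (sub_left_inj.1 h1).symm
  refine ⟨Z * G, ?_, ?_, ?_⟩
  · rw [Matrix.det_mul, hZdet, hμ2, inv_mul_cancel₀ hδ0]
  · intro x y
    rw [← Matrix.mulVec_mulVec, ← Matrix.mulVec_mulVec, hZpres, hGpres]
  · rw [Matrix.mul_assoc, hGA, ← Matrix.mul_assoc, hZB, Matrix.mul_assoc]

theorem su_involution_classes [CharP F 2] {n : ℕ} (hF : Fintype.card F = q ^ 2)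
    (a b : ↥(Cfsg.SU n F q)) (ha : orderOf a = 2) (hb : orderOf b = 2) :
    (IsConj a b ↔ IsConj (a : Matrix.SpecialLinearGroup (Fin n) F) (b : Matrix.SpecialLinearGroup (Fin n) F)) ∧
    (IsConj a b ↔ (((a : Matrix.SpecialLinearGroup (Fin n) F) : Matrix (Fin n) (Fin n) F) - 1).rank = (((b : Matrix.SpecialLinearGroup (Fin n) F) : Matrix (Fin n) (Fin n) F) - 1).rank) := by
  classical
  have ha2 : a * a = 1 := by
    have := pow_orderOf_eq_one a
    rw [ha, sq] at this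
    exact this
  have hb2 : b * b = 1 := by
    have := pow_orderOf_eq_one b
    rw [hb, sq] at this
    exact this
  have haM : ((a : Matrix.SpecialLinearGroup (Fin n) F) : Matrix (Fin n) (Fin n) F) *
      ((a : Matrix.SpecialLinearGroup (Fin n) F) : Matrix (Fin n) (Fin n) F) = 1 :=
    congrArg (fun x : ↥(Cfsg.SU n F q) => ((x : Matrix.SpecialLinearGroup (Fin n) F) : Matrix (Fin n) (Fin n) F)) ha2
  have hbM : ((b : Matrix.SpecialLinearGroup (Fin n) F) : Matrix (Fin n) (Fin n) F) *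
      ((b : Matrix.SpecialLinearGroup (Fin n) F) : Matrix (Fin n) (Fin n) F) = 1 :=
    congrArg (fun x : ↥(Cfsg.SU n F q) => ((x : Matrix.SpecialLinearGroup (Fin n) F) : Matrix (Fin n) (Fin n) F)) hb2
  have hb1 : ((b : Matrix.SpecialLinearGroup (Fin n) F) : Matrix (Fin n) (Fin n) F) ≠ 1 := by
    intro h1
    have h2 : b = 1 := by
      apply Subtype.ext
      apply Subtype.ext
      exact h1
    rw [h2, orderOf_one] at hb
    omega
  have hapres : ∀ u v, Cfsg.hermForm n F q (((a : Matrix.SpecialLinearGroup (Fin n) F) : Matrix (Fin n) (Fin n) F) *ᵥ u)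
      (((a : Matrix.SpecialLinearGroup (Fin n) F) : Matrix (Fin n) (Fin n) F) *ᵥ v) = Cfsg.hermForm n F q u v := a.2
  have hbpres : ∀ u v, Cfsg.hermForm n F q (((b : Matrix.SpecialLinearGroup (Fin n) F) : Matrix (Fin n) (Fin n) F) *ᵥ u)
      (((b : Matrix.SpecialLinearGroup (Fin n) F) : Matrix (Fin n) (Fin n) F) *ᵥ v) = Cfsg.hermForm n F q u v := b.2
  have h12 : IsConj a b → IsConj (a : Matrix.SpecialLinearGroup (Fin n) F) (b : Matrix.SpecialLinearGroup (Fin n) F) :=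
    fun h => by
      obtain ⟨c, hc⟩ := isConj_iff.1 h
      exact isConj_iff.2 ⟨(c : Matrix.SpecialLinearGroup (Fin n) F), congrArg Subtype.val hc⟩
  have h23 : IsConj (a : Matrix.SpecialLinearGroup (Fin n) F) (b : Matrix.SpecialLinearGroup (Fin n) F) →
      (((a : Matrix.SpecialLinearGroup (Fin n) F) : Matrix (Fin n) (Fin n) F) - 1).rank =
        (((b : Matrix.SpecialLinearGroup (Fin n) F) : Matrix (Fin n) (Fin n) F) - 1).rank := by
    intro hconj
    obtain ⟨c, hc⟩ := isConj_iff.1 hconj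
    have hcc : (c : Matrix (Fin n) (Fin n) F) * ((c⁻¹ : Matrix.SpecialLinearGroup (Fin n) F) : Matrix (Fin n) (Fin n) F) = 1 :=
      congrArg Subtype.val (mul_inv_cancel c)
    have hbM' : ((b : Matrix.SpecialLinearGroup (Fin n) F) : Matrix (Fin n) (Fin n) F) =
        (c : Matrix (Fin n) (Fin n) F) * ((a : Matrix.SpecialLinearGroup (Fin n) F) : Matrix (Fin n) (Fin n) F) *
          ((c⁻¹ : Matrix.SpecialLinearGroup (Fin n) F) : Matrix (Fin n) (Fin n) F) :=
      (congrArg Subtype.val hc).symm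
    have h1 : ((b : Matrix.SpecialLinearGroup (Fin n) F) : Matrix (Fin n) (Fin n) F) - 1 =
        (c : Matrix (Fin n) (Fin n) F) * (((a : Matrix.SpecialLinearGroup (Fin n) F) : Matrix (Fin n) (Fin n) F) - 1) *
          ((c⁻¹ : Matrix.SpecialLinearGroup (Fin n) F) : Matrix (Fin n) (Fin n) F) := by
      rw [Matrix.mul_sub, Matrix.sub_mul, Matrix.mul_one, hcc, ← hbM']
    rw [h1, Matrix.rank_mul_eq_left_of_isUnit_det _ _ (Matrix.isUnit_det_of_left_inverse hcc),
      Matrix.rank_mul_eq_right_of_isUnit_det _ _ (Matrix.isUnit_det_of_right_inverse hcc)]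
  have h31 : (((a : Matrix.SpecialLinearGroup (Fin n) F) : Matrix (Fin n) (Fin n) F) - 1).rank =
        (((b : Matrix.SpecialLinearGroup (Fin n) F) : Matrix (Fin n) (Fin n) F) - 1).rank → IsConj a b := by
    intro hrank
    obtain ⟨C, hCdet, hCpres, hCA⟩ := su_conj_of_rank hF _ _ hapres hbpres haM hbM hb1 hrank
    have hCmem : (⟨C, hCdet⟩ : Matrix.SpecialLinearGroup (Fin n) F) ∈ Cfsg.SU n F q := hCpres
    refine isConj_iff.2 ⟨⟨⟨C, hCdet⟩, hCmem⟩, ?_⟩
    rw [mul_inv_eq_iff_eq_mul]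
    apply Subtype.ext
    apply Subtype.ext
    exact hCA
  exact ⟨⟨h12, fun h => h31 (h23 h)⟩, ⟨fun h => h23 (h12 h), h31⟩⟩

end

end Cfsg.Agent.H42
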