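import Mathlib
import Cfsg.Prelude.Def_ClassicalGeometry
import Cfsg.Agent.H42.SUInv

set_option autoImplicit false

namespace Cfsg.Agent.H42

open Matrix Cfsg.Agent.H17

section

variable {F : Type*} [Field F] [Fintype F] {q : ℕ}

theorem hermS_smul_left (hF : Fintype.card F = q ^ 2) (n : ℕ) (a : F) (x y : Fin n → F) :
    hermS hF n (a • x) y = frobH hF a * hermS hF n x y := by
  rw [LinearMap.map_smulₛₗ₂]
  rfl

theorem hermS_single_single (hF : Fintype.card F = q ^ 2) (n : ℕ) (i j : Fin n) :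
    hermS hF n (Pi.single i 1) (Pi.single j 1) = if i = j then 1 else 0 := by
  have hq := two_le_of_card_sq hF
  rw [hermS_apply, hermForm_single_left, Pi.single_apply]
  by_cases h : i = j
  · subst h
    simp
  · have h' : ¬ j = i := fun e => h e.symm
    simp [h, h', zero_pow (by omega : q ≠ 0)]

/-- Normal form of a unitary transvection. -/
theorem su_transv_normal_form (hF : Fintype.card F = q ^ 2) {n : ℕ} (T : Matrix (Fin n) (Fin n) F)
    (hT : ∀ u v, Cfsg.hermForm n F q (T *ᵥ u) (T *ᵥ v) = Cfsg.hermForm n F q u v)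
    (hrk : (T - 1).rank = 1) (hsq : (T - 1) * (T - 1) = 0) :
    ∃ (v : Fin n → F) (a : F), v ≠ 0 ∧ hermS hF n v v = 0 ∧ a ≠ 0 ∧ a + frobH hF a = 0 ∧
      ∀ x, T *ᵥ x = x + (a * hermS hF n v x) • v := by
  have hS := hermS_isSymm hF n
  have hnd := hermS_nondegenerate hF n
  have h1 : Module.finrank F (LinearMap.range (nOpU T)) = 1 := hrk
  obtain ⟨⟨v, hvmem⟩, hv0, hvspan⟩ := finrank_eq_one_iff'.1 h1
  obtain ⟨x₀, hx₀⟩ := hvmem
  have hv0' : v ≠ 0 := fun h => hv0 (Subtype.ext h)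
  have hc : ∀ y, ∃ c : F, nOpU T y = c • v := by
    intro y
    obtain ⟨c, hc⟩ := hvspan ⟨nOpU T y, LinearMap.mem_range_self _ y⟩
    exact ⟨c, (congrArg Subtype.val hc).symm⟩
  have hNN : ∀ x, nOpU T (nOpU T x) = 0 := by
    intro x
    show (T - 1).mulVecLin ((T - 1).mulVecLin x) = 0
    rw [Matrix.mulVecLin_apply, Matrix.mulVecLin_apply, Matrix.mulVec_mulVec, hsq,
      Matrix.zero_mulVec]
  have hNv : nOpU T v = 0 := by
    rw [← hx₀]
    exact hNN x₀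
  have hrel : ∀ x y, hermS hF n (nOpU T x) y + hermS hF n x (nOpU T y) +
      hermS hF n (nOpU T x) (nOpU T y) = 0 := by
    intro x y
    have h2 := hT y x
    rw [← hermS_apply hF, ← hermS_apply hF] at h2
    have e1 : T *ᵥ x = x + nOpU T x := by
      rw [nOpU_apply]
      abel
    have e2 : T *ᵥ y = y + nOpU T y := by
      rw [nOpU_apply]
      abel
    rw [e1, e2] at h2
    simp only [map_add, LinearMap.add_apply] at h2
    linear_combination h2
  obtain ⟨k, hk⟩ : ∃ k : F, ∀ y c, nOpU T y = c • v → hermS hF n v y = c * k := by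
    refine ⟨-(hermS hF n x₀ v + hermS hF n v v), ?_⟩
    intro y c hy
    have h3 := hrel x₀ y
    rw [hx₀, hy] at h3
    simp only [map_smul, smul_eq_mul] at h3
    linear_combination h3
  obtain ⟨y₁, hy₁⟩ : ∃ y₁, hermS hF n v y₁ ≠ 0 := by
    by_contra hcon
    push Not at hcon
    exact hv0' (hnd.1 v hcon)
  have hk0 : k ≠ 0 := by
    rintro rfl
    obtain ⟨c, hc1⟩ := hc y₁
    exact hy₁ (by rw [hk y₁ c hc1, mul_zero])
  have hform : ∀ y, nOpU T y = (k⁻¹ * hermS hF n v y) • v := by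
    intro y
    obtain ⟨c, hc1⟩ := hc y
    rw [hc1, hk y c hc1]
    congr 1
    field_simp
  have hvv : hermS hF n v v = 0 := by
    have h4 := hform v
    rw [hNv] at h4
    have h5 := (smul_eq_zero.1 h4.symm).resolve_right hv0'
    exact (mul_eq_zero.1 h5).resolve_left (inv_ne_zero hk0)
  have htr : k⁻¹ + frobH hF k⁻¹ = 0 := by
    have h6 := hrel y₁ y₁
    rw [hform y₁] at h6
    simp only [map_smul, smul_eq_mul, hermS_smul_left, hvv, mul_zero, add_zero] at h6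
    have h7 : hermS hF n y₁ v = frobH hF (hermS hF n v y₁) := (hS.eq v y₁).symm
    rw [h7, map_mul] at h6
    have h8 : (k⁻¹ + frobH hF k⁻¹) * (frobH hF (hermS hF n v y₁) * hermS hF n v y₁) = 0 := by
      linear_combination h6
    rcases mul_eq_zero.1 h8 with h | h
    · exact h
    · exfalso
      rcases mul_eq_zero.1 h with h | h
      · exact hy₁ ((map_eq_zero (frobH hF)).1 h)
      · exact hy₁ h
  refine ⟨v, k⁻¹, hv0', hvv, inv_ne_zero hk0, htr, ?_⟩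
  intro x
  rw [← hform, nOpU_apply]
  abel

/-- Rescaling the centre of a unitary transvection to change its parameter. -/
theorem su_transv_rescale (hF : Fintype.card F = q ^ 2) {n : ℕ} (v : Fin n → F) (a a₀ : F)
    (hv : v ≠ 0) (hvv : hermS hF n v v = 0) (ha : a ≠ 0) (hat : a + frobH hF a = 0)
    (ha₀ : a₀ ≠ 0) (ha₀t : a₀ + frobH hF a₀ = 0) :
    ∃ v' : Fin n → F, v' ≠ 0 ∧ hermS hF n v' v' = 0 ∧
      ∀ x, (a * hermS hF n v x) • v = (a₀ * hermS hF n v' x) • v' := by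
  have hσ := frobH_ne_id hF
  have hσ2 := frobH_invol hF
  have h1 : frobH hF a = -a := by linear_combination hat
  have h2 : frobH hF a₀ = -a₀ := by linear_combination ha₀t
  have h3 : frobH hF (a / a₀) = a / a₀ := by
    rw [map_div₀, h1, h2, neg_div_neg_eq]
  obtain ⟨c, hc⟩ := exists_norm_eq (frobH hF) hσ hσ2 (a / a₀) (div_ne_zero ha ha₀) h3
  have hc0 : c ≠ 0 := by
    rintro rfl
    rw [zero_mul] at hc
    exact div_ne_zero ha ha₀ hc.symm
  refine ⟨c • v, smul_ne_zero hc0 hv, ?_, ?_⟩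
  · rw [hermS_smul_left, map_smul, hvv, smul_zero, mul_zero]
  · intro x
    rw [hermS_smul_left, smul_smul]
    congr 1
    have h4 : a = a₀ * (c * frobH hF c) := by
      rw [hc]
      field_simp
    linear_combination (hermS hF n v x) * h4

/-- Every nonzero isotropic vector can be moved to a fixed one by an element of `SU`. -/
theorem su_exists_std (hF : Fintype.card F = q ^ 2) {n : ℕ} (hn : 3 ≤ n) :
    ∃ w₀ : Fin n → F, ∀ v : Fin n → F, v ≠ 0 → hermS hF n v v = 0 →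
      ∃ C : Matrix (Fin n) (Fin n) F, C.det = 1 ∧
        (∀ x y, Cfsg.hermForm n F q (C *ᵥ x) (C *ᵥ y) = Cfsg.hermForm n F q x y) ∧
        C *ᵥ v = w₀ := by
  classical
  have hq := two_le_of_card_sq hF
  have hσ := frobH_ne_id hF
  have hσ2 := frobH_invol hF
  have hS := hermS_isSymm hF n
  have hnd := hermS_nondegenerate hF n
  obtain ⟨c, hc⟩ := exists_norm_eq (frobH hF) hσ hσ2 (-1) (by simp) (by simp)
  obtain ⟨i0, hi0⟩ : ∃ i0 : Fin n, i0 = ⟨0, by omega⟩ := ⟨_, rfl⟩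
  obtain ⟨i1, hi1⟩ : ∃ i1 : Fin n, i1 = ⟨1, by omega⟩ := ⟨_, rfl⟩
  obtain ⟨i2, hi2⟩ : ∃ i2 : Fin n, i2 = ⟨2, by omega⟩ := ⟨_, rfl⟩
  have h01 : i0 ≠ i1 := by
    rw [hi0, hi1]
    simp
  have h02 : i0 ≠ i2 := by
    rw [hi0, hi2]
    simp
  have h12 : i1 ≠ i2 := by
    rw [hi1, hi2]
    simp
  obtain ⟨w₀, hw₀⟩ : ∃ w₀ : Fin n → F, w₀ = Pi.single i0 1 + c • Pi.single i1 1 := ⟨_, rfl⟩
  have hw₀w₀ : hermS hF n w₀ w₀ = 0 := by
    rw [hw₀]
    simp only [map_add, LinearMap.add_apply, hermS_smul_left, map_smul, smul_eq_mul,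
      hermS_single_single, if_true, if_neg h01, if_neg h01.symm, mul_zero, mul_one, add_zero,
      zero_add]
    linear_combination hc
  have hw₀2 : w₀ i2 = 0 := by
    rw [hw₀]
    simp [Pi.single_apply, h02.symm, h12.symm]
  have hw₀0 : w₀ ≠ 0 := by
    intro h
    have h1 := congrFun h i0
    rw [hw₀] at h1
    simp [Pi.single_apply, h01] at h1
  refine ⟨w₀, ?_⟩
  intro v hv hvv
  obtain ⟨y, hy⟩ : ∃ y, hermS hF n y v ≠ 0 := by
    by_contra hcon
    push Not at hcon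
    exact hv (hnd.2 v hcon)
  obtain ⟨f, hf⟩ : ∃ f : (Fin n → F) →ₗ[F] (Fin n → F),
      ∀ x, f x = ((hermS hF n y v)⁻¹ * hermS hF n y x) • w₀ := by
    refine ⟨((hermS hF n y v)⁻¹ • hermS hF n y).smulRight w₀, ?_⟩
    intro x
    simp
  have hfv : ∀ d : F, f (d • v) = d • w₀ := by
    intro d
    rw [hf, map_smul, smul_eq_mul]
    congr 1
    field_simp
  obtain ⟨g, hg, hgX⟩ := witt_herm (frobH hF) hσ hσ2 (hermS hF n) hS hnd (Submodule.span F {v}) f
    (by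
      intro x hx x' hx'
      obtain ⟨d, rfl⟩ := Submodule.mem_span_singleton.1 hx
      obtain ⟨d', rfl⟩ := Submodule.mem_span_singleton.1 hx'
      rw [hfv, hfv]
      simp only [hermS_smul_left, map_smul, smul_eq_mul, hw₀w₀, hvv])
    (by
      intro x hx h0
      obtain ⟨d, rfl⟩ := Submodule.mem_span_singleton.1 hx
      rw [hfv] at h0
      rw [(smul_eq_zero.1 h0).resolve_right hw₀0, zero_smul])
  have hgv : g v = w₀ := by
    rw [hgX v (Submodule.mem_span_singleton_self v)]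
    have := hfv 1
    rw [one_smul, one_smul] at this
    exact this
  obtain ⟨G, hGdef⟩ : ∃ G : Matrix (Fin n) (Fin n) F,
      G = LinearMap.toMatrix' (g : (Fin n → F) →ₗ[F] (Fin n → F)) := ⟨_, rfl⟩
  have hGv : ∀ x, G *ᵥ x = g x := by
    intro x
    rw [hGdef, ← Matrix.toLin'_apply, Matrix.toLin'_toMatrix']
    rfl
  have hGpres : ∀ u v, Cfsg.hermForm n F q (G *ᵥ u) (G *ᵥ v) = Cfsg.hermForm n F q u v := by
    intro u v
    rw [hGv, hGv, ← hermS_apply hF, hg, hermS_apply]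
  have hδ := det_norm_of_preserves hF G hGpres
  have hδ0 : G.det ≠ 0 := by
    intro h0
    rw [h0, zero_pow (by omega)] at hδ
    exact zero_ne_one hδ
  have hδi : (G.det)⁻¹ ^ (q + 1) = 1 := by
    rw [inv_pow, hδ, inv_one]
  obtain ⟨d, hd⟩ : ∃ d : Fin n → F, d = Function.update (1 : Fin n → F) i2 (G.det)⁻¹ := ⟨_, rfl⟩
  have hdpow : ∀ i, d i ^ (q + 1) = 1 := by
    intro i
    rw [hd]
    by_cases hi : i = i2
    · rw [hi, Function.update_self, hδi]
    · rw [Function.update_of_ne hi, Pi.one_apply, one_pow]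
  have hZv : ∀ x : Fin n → F, Matrix.diagonal d *ᵥ x = fun i => d i * x i := by
    intro x
    ext i
    rw [Matrix.mulVec_diagonal]
  have hZpres : ∀ x y, Cfsg.hermForm n F q (Matrix.diagonal d *ᵥ x) (Matrix.diagonal d *ᵥ y) =
      Cfsg.hermForm n F q x y := by
    intro x y
    rw [hZv, hZv]
    unfold Cfsg.hermForm
    apply Finset.sum_congr rfl
    intro i _
    have := hdpow i
    rw [pow_succ] at this
    rw [mul_pow]
    linear_combination (x i * y i ^ q) * this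
  have hZdet : (Matrix.diagonal d).det = (G.det)⁻¹ := by
    rw [Matrix.det_diagonal, hd, Finset.prod_update_of_mem (Finset.mem_univ i2)]
    simp
  have hZw : Matrix.diagonal d *ᵥ w₀ = w₀ := by
    rw [hZv]
    ext i
    by_cases hi : i = i2
    · rw [hi, hw₀2, mul_zero]
    · rw [hd, Function.update_of_ne hi, Pi.one_apply, one_mul]
  refine ⟨Matrix.diagonal d * G, ?_, ?_, ?_⟩
  · rw [Matrix.det_mul, hZdet, inv_mul_cancel₀ hδ0]
  · intro x y
    rw [← Matrix.mulVec_mulVec, ← Matrix.mulVec_mulVec, hZpres, hGpres]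
  · rw [← Matrix.mulVec_mulVec, hGv, hgv, hZw]

/-- Any two transvections of `SU_n(q)`, `n ≥ 3`, are conjugate. -/
theorem su_transvections_conj {n : ℕ} (hF : Fintype.card F = q ^ 2) (hn : 3 ≤ n)
    (s t : ↥(Cfsg.SU n F q))
    (hs : Cfsg.IsTransvection ((s : Matrix.SpecialLinearGroup (Fin n) F) : Matrix (Fin n) (Fin n) F))
    (ht : Cfsg.IsTransvection ((t : Matrix.SpecialLinearGroup (Fin n) F) : Matrix (Fin n) (Fin n) F)) :
    IsConj s t := by
  classical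
  have hspres : ∀ u v, Cfsg.hermForm n F q (((s : Matrix.SpecialLinearGroup (Fin n) F) : Matrix (Fin n) (Fin n) F) *ᵥ u)
      (((s : Matrix.SpecialLinearGroup (Fin n) F) : Matrix (Fin n) (Fin n) F) *ᵥ v) = Cfsg.hermForm n F q u v := s.2
  have htpres : ∀ u v, Cfsg.hermForm n F q (((t : Matrix.SpecialLinearGroup (Fin n) F) : Matrix (Fin n) (Fin n) F) *ᵥ u)
      (((t : Matrix.SpecialLinearGroup (Fin n) F) : Matrix (Fin n) (Fin n) F) *ᵥ v) = Cfsg.hermForm n F q u v := t.2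
  obtain ⟨v, a, hv, hvv, ha, hat, hsform⟩ := su_transv_normal_form hF _ hspres hs.1 hs.2
  obtain ⟨v₁, a₁, hv₁, hvv₁, ha₁, hat₁, htform₁⟩ := su_transv_normal_form hF _ htpres ht.1 ht.2
  obtain ⟨v', hv', hvv', hresc⟩ := su_transv_rescale hF v₁ a₁ a hv₁ hvv₁ ha₁ hat₁ ha hat
  have htform : ∀ x, ((t : Matrix.SpecialLinearGroup (Fin n) F) : Matrix (Fin n) (Fin n) F) *ᵥ x =
      x + (a * hermS hF n v' x) • v' := by
    intro x
    rw [htform₁, hresc]
  obtain ⟨w₀, hw₀⟩ := su_exists_std hF hn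
  obtain ⟨C₁, hC₁det, hC₁pres, hC₁v⟩ := hw₀ v hv hvv
  obtain ⟨C₂, hC₂det, hC₂pres, hC₂v⟩ := hw₀ v' hv' hvv'
  have hC₁mem : (⟨C₁, hC₁det⟩ : Matrix.SpecialLinearGroup (Fin n) F) ∈ Cfsg.SU n F q := hC₁pres
  have hC₂mem : (⟨C₂, hC₂det⟩ : Matrix.SpecialLinearGroup (Fin n) F) ∈ Cfsg.SU n F q := hC₂pres
  obtain ⟨c₁, hc₁⟩ : ∃ c₁ : ↥(Cfsg.SU n F q), c₁ = ⟨⟨C₁, hC₁det⟩, hC₁mem⟩ := ⟨_, rfl⟩
  obtain ⟨c₂, hc₂⟩ : ∃ c₂ : ↥(Cfsg.SU n F q), c₂ = ⟨⟨C₂, hC₂det⟩, hC₂mem⟩ := ⟨_, rfl⟩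
  have hc₁M : ((c₁ : Matrix.SpecialLinearGroup (Fin n) F) : Matrix (Fin n) (Fin n) F) = C₁ := by
    rw [hc₁]
  have hc₂M : ((c₂ : Matrix.SpecialLinearGroup (Fin n) F) : Matrix (Fin n) (Fin n) F) = C₂ := by
    rw [hc₂]
  have hc₁inv : C₁ * (((c₁⁻¹ : ↥(Cfsg.SU n F q)) : Matrix.SpecialLinearGroup (Fin n) F) : Matrix (Fin n) (Fin n) F) = 1 := by
    rw [← hc₁M]
    exact congrArg (fun x : ↥(Cfsg.SU n F q) => ((x : Matrix.SpecialLinearGroup (Fin n) F) : Matrix (Fin n) (Fin n) F)) (mul_inv_cancel c₁)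
  have hc₂inv : C₂ * (((c₂⁻¹ : ↥(Cfsg.SU n F q)) : Matrix.SpecialLinearGroup (Fin n) F) : Matrix (Fin n) (Fin n) F) = 1 := by
    rw [← hc₂M]
    exact congrArg (fun x : ↥(Cfsg.SU n F q) => ((x : Matrix.SpecialLinearGroup (Fin n) F) : Matrix (Fin n) (Fin n) F)) (mul_inv_cancel c₂)
  have key₁ : ∀ x, C₁ *ᵥ (((s : Matrix.SpecialLinearGroup (Fin n) F) : Matrix (Fin n) (Fin n) F) *ᵥ x) =
      C₁ *ᵥ x + (a * hermS hF n w₀ (C₁ *ᵥ x)) • w₀ := by
    intro x
    rw [hsform, Matrix.mulVec_add, Matrix.mulVec_smul, hC₁v]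
    congr 3
    rw [← hC₁v, hermS_apply, hermS_apply, hC₁pres]
  have key₂ : ∀ x, C₂ *ᵥ (((t : Matrix.SpecialLinearGroup (Fin n) F) : Matrix (Fin n) (Fin n) F) *ᵥ x) =
      C₂ *ᵥ x + (a * hermS hF n w₀ (C₂ *ᵥ x)) • w₀ := by
    intro x
    rw [htform, Matrix.mulVec_add, Matrix.mulVec_smul, hC₂v]
    congr 3
    rw [← hC₂v, hermS_apply, hermS_apply, hC₂pres]
  have hconj : c₁ * s * c₁⁻¹ = c₂ * t * c₂⁻¹ := by
    apply Subtype.ext
    apply Subtype.ext
    show ((c₁ : Matrix.SpecialLinearGroup (Fin n) F) : Matrix (Fin n) (Fin n) F) *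
        ((s : Matrix.SpecialLinearGroup (Fin n) F) : Matrix (Fin n) (Fin n) F) *
        (((c₁⁻¹ : ↥(Cfsg.SU n F q)) : Matrix.SpecialLinearGroup (Fin n) F) : Matrix (Fin n) (Fin n) F) =
      ((c₂ : Matrix.SpecialLinearGroup (Fin n) F) : Matrix (Fin n) (Fin n) F) *
        ((t : Matrix.SpecialLinearGroup (Fin n) F) : Matrix (Fin n) (Fin n) F) *
        (((c₂⁻¹ : ↥(Cfsg.SU n F q)) : Matrix.SpecialLinearGroup (Fin n) F) : Matrix (Fin n) (Fin n) F)
    rw [hc₁M, hc₂M]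
    apply mat_ext_mulVec'
    intro x
    rw [← Matrix.mulVec_mulVec, ← Matrix.mulVec_mulVec, ← Matrix.mulVec_mulVec,
      ← Matrix.mulVec_mulVec, key₁, key₂, Matrix.mulVec_mulVec, Matrix.mulVec_mulVec, hc₁inv,
      hc₂inv]
  refine isConj_iff.2 ⟨c₂⁻¹ * c₁, ?_⟩
  have e : c₂⁻¹ * c₁ * s * (c₂⁻¹ * c₁)⁻¹ = c₂⁻¹ * (c₁ * s * c₁⁻¹) * c₂ := by group
  rw [e, hconj]
  group

end

end Cfsg.Agent.H42
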