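import Mathlib
import Cfsg.Prelude.Def_ClassicalGeometry
import Cfsg.Agent.H42.SUTransv
import Cfsg.Agent.H42.Rk1

set_option autoImplicit false

namespace Cfsg.Agent.H42

open Matrix Cfsg.Agent.H17

section

variable {F : Type*} [Field F] [Fintype F] {q : ℕ}

/-- The quasi-reflection `x ↦ x + (λ - 1) B(v, x) v`. -/
def urefl {n : ℕ} (q : ℕ) (v : Fin n → F) (lam : F) : Matrix (Fin n) (Fin n) F :=
  rk1 ((lam - 1) • v) (fun j => v j ^ q)

theorem urefl_mulVec (hF : Fintype.card F = q ^ 2) {n : ℕ} (v : Fin n → F) (lam : F)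
    (x : Fin n → F) : urefl q v lam *ᵥ x = x + ((lam - 1) * hermS hF n v x) • v := by
  rw [urefl, rk1_mulVec, smul_smul]
  congr 2
  rw [hermS_apply, mul_comm]
  congr 1
  unfold Cfsg.hermForm
  simp only [dotProduct]
  exact Finset.sum_congr rfl (fun j _ => mul_comm _ _)

theorem urefl_det (hF : Fintype.card F = q ^ 2) {n : ℕ} (v : Fin n → F) (lam : F)
    (hv : hermS hF n v v = 1) : (urefl q v lam).det = lam := by
  rw [urefl, det_rk1]
  have h1 : (fun j => v j ^ q) ⬝ᵥ ((lam - 1) • v) = (lam - 1) * hermS hF n v v := by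
    rw [hermS_apply]
    unfold Cfsg.hermForm
    simp only [dotProduct, Pi.smul_apply, smul_eq_mul]
    rw [Finset.mul_sum]
    exact Finset.sum_congr rfl (fun j _ => by ring)
  rw [h1, hv]
  ring

theorem urefl_preserves (hF : Fintype.card F = q ^ 2) {n : ℕ} (v : Fin n → F) (lam : F)
    (hv : hermS hF n v v = 1) (hlam : lam * frobH hF lam = 1) (x y : Fin n → F) :
    Cfsg.hermForm n F q (urefl q v lam *ᵥ x) (urefl q v lam *ᵥ y) = Cfsg.hermForm n F q x y := by
  have hS := hermS_isSymm hF n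
  rw [← hermS_apply hF, ← hermS_apply hF, urefl_mulVec hF, urefl_mulVec hF]
  have hyv : hermS hF n y v = frobH hF (hermS hF n v y) := (hS.eq v y).symm
  simp only [map_add, LinearMap.add_apply, hermS_smul_left, map_smul, smul_eq_mul, hv, hyv,
    map_mul, map_sub, map_one]
  linear_combination (frobH hF (hermS hF n v y) * hermS hF n v x) * hlam

/-- The involution `x ↦ -x + 2 B(v, x) v`. -/
def uinv {n : ℕ} (q : ℕ) (v : Fin n → F) : Matrix (Fin n) (Fin n) F :=
  -(urefl q v (-1))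

theorem uinv_mulVec (hF : Fintype.card F = q ^ 2) {n : ℕ} (v : Fin n → F)
    (x : Fin n → F) : uinv q v *ᵥ x = -x + (2 * hermS hF n v x) • v := by
  rw [uinv, Matrix.neg_mulVec, urefl_mulVec hF, neg_add, ← neg_smul]
  congr 2
  ring

theorem uinv_preserves (hF : Fintype.card F = q ^ 2) {n : ℕ} (v : Fin n → F)
    (hv : hermS hF n v v = 1) (x y : Fin n → F) :
    Cfsg.hermForm n F q (uinv q v *ᵥ x) (uinv q v *ᵥ y) = Cfsg.hermForm n F q x y := by
  have h := urefl_preserves hF v (-1) hv (by rw [map_neg, map_one]; ring) x y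
  rw [uinv, Matrix.neg_mulVec, Matrix.neg_mulVec, ← hermS_apply hF, map_neg, map_neg,
    LinearMap.neg_apply, neg_neg, hermS_apply]
  exact h

theorem uinv_det3 (hF : Fintype.card F = q ^ 2) (v : Fin 3 → F)
    (hv : hermS hF 3 v v = 1) : (uinv q v).det = 1 := by
  rw [uinv, Matrix.det_neg, urefl_det hF v (-1) hv, Fintype.card_fin]
  ring

theorem uinv_sq (hF : Fintype.card F = q ^ 2) {n : ℕ} (v : Fin n → F)
    (hv : hermS hF n v v = 1) : uinv q v * uinv q v = 1 := by
  apply mat_ext_mulVec'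
  intro x
  rw [← Matrix.mulVec_mulVec, uinv_mulVec hF, uinv_mulVec hF, Matrix.one_mulVec]
  simp only [map_add, map_neg, map_smul, smul_eq_mul, hv]
  rw [neg_add, neg_neg, ← neg_smul, add_assoc, ← add_smul]
  have : -(2 * hermS hF n v x) + 2 * (-(hermS hF n v x) + 2 * hermS hF n v x * 1) = 0 := by
    ring
  rw [this, zero_smul, add_zero]

/-- Conjugating `uinv` by an isometry. -/
theorem uinv_conj (hF : Fintype.card F = q ^ 2) {n : ℕ} (C : Matrix (Fin n) (Fin n) F)
    (hC : ∀ x y, Cfsg.hermForm n F q (C *ᵥ x) (C *ᵥ y) = Cfsg.hermForm n F q x y)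
    (v : Fin n → F) : C * uinv q v = uinv q (C *ᵥ v) * C := by
  apply mat_ext_mulVec'
  intro x
  rw [← Matrix.mulVec_mulVec, ← Matrix.mulVec_mulVec, uinv_mulVec hF, uinv_mulVec hF,
    Matrix.mulVec_add, Matrix.mulVec_neg, Matrix.mulVec_smul, hermS_apply, hermS_apply, hC]

/-- `uinv` only depends on the line spanned by the unit vector. -/
theorem uinv_smul (hF : Fintype.card F = q ^ 2) {n : ℕ} (v : Fin n → F) (c : F)
    (hv : hermS hF n v v = 1) (hcv : hermS hF n (c • v) (c • v) = 1) :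
    uinv q (c • v) = uinv q v := by
  apply mat_ext_mulVec'
  intro x
  rw [uinv_mulVec hF, uinv_mulVec hF, hermS_smul_left, smul_smul]
  rw [hermS_smul_left, map_smul, smul_eq_mul, hv, mul_one] at hcv
  congr 2
  linear_combination (2 * hermS hF n v x) * hcv

theorem uinv_eq_iff (hF : Fintype.card F = q ^ 2) (h2 : (2 : F) ≠ 0) {n : ℕ} (v v' : Fin n → F)
    (hv : hermS hF n v v = 1) (hv' : hermS hF n v' v' = 1) :
    uinv q v = uinv q v' ↔ ∃ c : F, v' = c • v := by
  constructor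
  · intro h
    have h1 := congrArg (fun M : Matrix (Fin n) (Fin n) F => M *ᵥ v') h
    simp only [uinv_mulVec hF, hv', mul_one] at h1
    refine ⟨hermS hF n v v', ?_⟩
    have h3 : (2 : F) • v' = (2 : F) • (hermS hF n v v' • v) := by
      rw [smul_smul]
      have : (2 : F) • v' = -v' + (2 : F) • v' + v' := by
        rw [two_smul]
        abel
      rw [this, ← h1]
      abel
    exact smul_right_injective _ h2 h3
  · rintro ⟨c, rfl⟩
    exact (uinv_smul hF v c hv hv').symm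

theorem eq_zero_of_rank_zero {n : ℕ} (E : Matrix (Fin n) (Fin n) F) (h : E.rank = 0) : E = 0 := by
  have h1 : Module.finrank F (LinearMap.range E.mulVecLin) = 0 := h
  rw [Submodule.finrank_eq_zero] at h1
  apply mat_ext_mulVec'
  intro x
  have h2 : E.mulVecLin x ∈ LinearMap.range E.mulVecLin := LinearMap.mem_range_self _ x
  rw [h1, Submodule.mem_bot] at h2
  rw [Matrix.zero_mulVec]
  exact h2

/-- A rank-one idempotent is `a φᵀ` with `φ ⬝ a = 1`. -/
theorem rank_one_idem {n : ℕ} (E : Matrix (Fin n) (Fin n) F) (hr : E.rank = 1) (hE : E * E = E) :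
    ∃ a φ : Fin n → F, a ≠ 0 ∧ E = Matrix.vecMulVec a φ ∧ φ ⬝ᵥ a = 1 := by
  have h1 : Module.finrank F (LinearMap.range E.mulVecLin) = 1 := hr
  obtain ⟨⟨a, hamem⟩, ha0, haspan⟩ := finrank_eq_one_iff'.1 h1
  obtain ⟨y, hy⟩ := hamem
  have ha0' : a ≠ 0 := fun h => ha0 (Subtype.ext h)
  have hc : ∀ x, ∃ c : F, E *ᵥ x = c • a := by
    intro x
    obtain ⟨c, hc⟩ := haspan ⟨E.mulVecLin x, LinearMap.mem_range_self _ x⟩
    exact ⟨c, (congrArg Subtype.val hc).symm⟩
  choose φ hφ using fun j => hc (Pi.single j 1)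
  have hEa : E *ᵥ a = a := by
    rw [← hy, Matrix.mulVecLin_apply, Matrix.mulVec_mulVec, hE]
  have hEeq : E = Matrix.vecMulVec a φ := by
    ext i j
    have h3 := congrFun (hφ j) i
    rw [Matrix.mulVec_single_one] at h3
    rw [Matrix.vecMulVec_apply, mul_comm]
    exact h3
  refine ⟨a, φ, ha0', hEeq, ?_⟩
  have h2 : E *ᵥ a = (φ ⬝ᵥ a) • a := by
    conv_lhs => rw [hEeq]
    rw [Matrix.vecMulVec_mulVec, op_smul_eq_smul]
  rw [hEa] at h2
  have h3 : ((φ ⬝ᵥ a) - 1) • a = 0 := by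
    rw [sub_smul, one_smul, ← h2, sub_self]
  have h4 := (smul_eq_zero.1 h3).resolve_right ha0'
  linear_combination h4

theorem det_one_sub_two_idem {n : ℕ} (E : Matrix (Fin n) (Fin n) F) (hr : E.rank = 1)
    (hE : E * E = E) : (1 - (2 : F) • E).det = -1 := by
  obtain ⟨a, φ, _, hEeq, hφa⟩ := rank_one_idem E hr hE
  have h1 : 1 - (2 : F) • E = rk1 ((-2 : F) • a) φ := by
    rw [rk1, hEeq, Matrix.smul_vecMulVec, neg_smul, sub_eq_add_neg]
  rw [h1, det_rk1, dotProduct_smul, hφa]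
  simp
  ring

theorem rank_add_rank_compl_idem {n : ℕ} (P Q : Matrix (Fin n) (Fin n) F) (hPQ : P + Q = 1)
    (hQP : Q * P = 0) : P.rank + Q.rank = n := by
  have hker : LinearMap.ker Q.mulVecLin = LinearMap.range P.mulVecLin := by
    ext x
    rw [LinearMap.mem_ker, LinearMap.mem_range]
    constructor
    · intro hx
      refine ⟨x, ?_⟩
      have h1 := congrArg (fun M : Matrix (Fin n) (Fin n) F => M *ᵥ x) hPQ
      simp only [Matrix.add_mulVec, Matrix.one_mulVec] at h1
      rw [Matrix.mulVecLin_apply] at hx ⊢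
      rw [hx, add_zero] at h1
      exact h1
    · rintro ⟨y, rfl⟩
      rw [Matrix.mulVecLin_apply, Matrix.mulVecLin_apply, Matrix.mulVec_mulVec, hQP,
        Matrix.zero_mulVec]
  have h := LinearMap.finrank_range_add_finrank_ker Q.mulVecLin
  rw [hker, Module.finrank_fintype_fun_eq_card, Fintype.card_fin] at h
  have e1 : P.rank = Module.finrank F (LinearMap.range P.mulVecLin) := rfl
  have e2 : Q.rank = Module.finrank F (LinearMap.range Q.mulVecLin) := rfl
  omega

/-- Structure of involutions of `SU_3(q)`, `q` odd. -/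
theorem su3_inv_structure (hF : Fintype.card F = q ^ 2) (h2 : (2 : F) ≠ 0)
    (T : Matrix (Fin 3) (Fin 3) F)
    (hT : ∀ u v, Cfsg.hermForm 3 F q (T *ᵥ u) (T *ᵥ v) = Cfsg.hermForm 3 F q u v)
    (hdet : T.det = 1) (hTT : T * T = 1) (hT1 : T ≠ 1) :
    ∃ v : Fin 3 → F, hermS hF 3 v v = 1 ∧ T = uinv q v := by
  have hσ := frobH_ne_id hF
  have hσ2 := frobH_invol hF
  have hS := hermS_isSymm hF 3
  have hnd := hermS_nondegenerate hF 3
  obtain ⟨P, hP⟩ : ∃ P : Matrix (Fin 3) (Fin 3) F, P = (2⁻¹ : F) • (1 + T) := ⟨_, rfl⟩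
  obtain ⟨Q, hQ⟩ : ∃ Q : Matrix (Fin 3) (Fin 3) F, Q = (2⁻¹ : F) • (1 - T) := ⟨_, rfl⟩
  have hPQ : P + Q = 1 := by
    rw [hP, hQ, ← smul_add]
    have : (1 + T) + (1 - T) = (2 : F) • (1 : Matrix (Fin 3) (Fin 3) F) := by
      rw [two_smul]
      abel
    rw [this, smul_smul, inv_mul_cancel₀ h2, one_smul]
  have hTP : T = P - Q := by
    rw [hP, hQ, ← smul_sub]
    have : (1 + T) - (1 - T) = (2 : F) • T := by
      rw [two_smul]
      abel
    rw [this, smul_smul, inv_mul_cancel₀ h2, one_smul]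
  have hQP : Q * P = 0 := by
    rw [hP, hQ, Matrix.smul_mul, Matrix.mul_smul]
    have : (1 - T) * (1 + T) = 0 := by
      rw [sub_mul, mul_add, mul_add, hTT, one_mul, one_mul, mul_one]
      abel
    rw [this, smul_zero, smul_zero]
  have hrank := rank_add_rank_compl_idem P Q hPQ hQP
  have hPP : P * P = P := by
    have : P * P = (P + Q) * P := by rw [add_mul, hQP, add_zero]
    rw [this, hPQ, one_mul]
  have hPQ0 : P * Q = 0 := by
    rw [hP, hQ, Matrix.smul_mul, Matrix.mul_smul]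
    have : (1 + T) * (1 - T) = 0 := by
      rw [add_mul, mul_sub, mul_sub, hTT, one_mul, one_mul, mul_one]
      abel
    rw [this, smul_zero, smul_zero]
  have hQQ : Q * Q = Q := by
    have : Q * Q = (P + Q) * Q := by rw [add_mul, hPQ0, zero_add]
    rw [this, hPQ, one_mul]
  have hT2 : T = 1 - (2 : F) • Q := by
    rw [hTP, ← hPQ, two_smul]
    abel
  have hT3 : T = (2 : F) • P - 1 := by
    rw [hTP, ← hPQ, two_smul]
    abel
  have h11 : (1 : F) ≠ -1 := by
    intro h
    apply h2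
    linear_combination h
  have hPrank : P.rank = 1 := by
    have hQle : Q.rank ≤ 3 := by omega
    interval_cases hk : Q.rank
    · exfalso
      apply hT1
      rw [hT2, eq_zero_of_rank_zero Q hk, smul_zero, sub_zero]
    · exfalso
      have := det_one_sub_two_idem Q hk hQQ
      rw [← hT2, hdet] at this
      exact h11 this
    · omega
    · exfalso
      have hP0 : P = 0 := eq_zero_of_rank_zero P (by omega)
      rw [hT3, hP0, smul_zero, zero_sub, Matrix.det_neg, Matrix.det_one, Fintype.card_fin] at hdet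
      apply h11
      linear_combination -hdet
  obtain ⟨a, φ, ha0, hPeq, hφa⟩ := rank_one_idem P hPrank hPP
  have hPx : ∀ x, P *ᵥ x = (φ ⬝ᵥ x) • a := by
    intro x
    rw [hPeq, Matrix.vecMulVec_mulVec, op_smul_eq_smul]
  have hTx : ∀ x, T *ᵥ x = (2 * (φ ⬝ᵥ x)) • a - x := by
    intro x
    conv_lhs => rw [hT3]
    rw [Matrix.sub_mulVec, Matrix.smul_mulVec, Matrix.one_mulVec, hPx, smul_smul]
  have hTa : T *ᵥ a = a := by
    rw [hTx, hφa, mul_one, two_smul]
    abel
  have horth : ∀ x, hermS hF 3 a x = (φ ⬝ᵥ x) * hermS hF 3 a a := by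
    intro x
    obtain ⟨z, hz⟩ : ∃ z, z = x - (φ ⬝ᵥ x) • a := ⟨_, rfl⟩
    have hφz : φ ⬝ᵥ z = 0 := by
      rw [hz, dotProduct_sub, dotProduct_smul, hφa, smul_eq_mul, mul_one, sub_self]
    have hTz : T *ᵥ z = -z := by
      rw [hTx, hφz, mul_zero, zero_smul, zero_sub]
    have h3 := hT z a
    rw [hTz, hTa, ← hermS_apply hF, ← hermS_apply hF, map_neg] at h3
    have h4 : hermS hF 3 a z = 0 := by
      have : (2 : F) * hermS hF 3 a z = 0 := by linear_combination -h3
      exact (mul_eq_zero.1 this).resolve_left h2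
    have hx : x = z + (φ ⬝ᵥ x) • a := by
      rw [hz]
      abel
    conv_lhs => rw [hx]
    rw [map_add, h4, zero_add, map_smul, smul_eq_mul]
  have hβ0 : hermS hF 3 a a ≠ 0 := by
    intro h0
    apply ha0
    apply hnd.1
    intro x
    rw [horth, h0, mul_zero]
  obtain ⟨c, hc⟩ := exists_norm_eq (frobH hF) hσ hσ2 (hermS hF 3 a a) hβ0 (hS.eq a a)
  have hc0 : c ≠ 0 := by
    rintro rfl
    rw [zero_mul] at hc
    exact hβ0 hc.symm
  have hσc0 : frobH hF c ≠ 0 := (map_ne_zero (frobH hF)).2 hc0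
  refine ⟨c⁻¹ • a, ?_, ?_⟩
  · rw [hermS_smul_left, map_smul, smul_eq_mul, ← hc, map_inv₀]
    field_simp
  · apply mat_ext_mulVec'
    intro x
    rw [uinv_mulVec hF, hTx, hermS_smul_left, smul_smul, horth, ← hc, map_inv₀]
    have e : 2 * ((frobH hF c)⁻¹ * (φ ⬝ᵥ x * (c * frobH hF c))) * c⁻¹ = 2 * (φ ⬝ᵥ x) := by
      field_simp
    rw [e]
    abel

theorem uinv_ne_one (hF : Fintype.card F = q ^ 2) (h2 : (2 : F) ≠ 0) (v : Fin 3 → F) :
    uinv q v ≠ 1 := by
  intro h
  have h0 := congrArg (fun M : Matrix (Fin 3) (Fin 3) F => M *ᵥ (Pi.single 0 1)) h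
  have h1 := congrArg (fun M : Matrix (Fin 3) (Fin 3) F => M *ᵥ (Pi.single 1 1)) h
  simp only [uinv_mulVec hF, Matrix.one_mulVec] at h0 h1
  have h00 := congrFun h0 0
  have h01 := congrFun h0 1
  have h11 := congrFun h1 1
  simp only [Pi.add_apply, Pi.neg_apply, Pi.smul_apply, smul_eq_mul, Pi.single_apply] at h00 h01 h11
  simp only [Fin.isValue, if_true, one_ne_zero, if_false, neg_zero, zero_add] at h00 h01 h11
  have hv1 : v 1 = 0 := by
    rcases mul_eq_zero.1 h01 with h3 | h3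
    · exfalso
      rw [h3, zero_mul] at h00
      apply h2
      linear_combination -h00
    · exact h3
  rw [hv1, mul_zero] at h11
  apply h2
  linear_combination -h11

/-- Any two `uinv`s are conjugate under an isometry of determinant one. -/
theorem su_uinv_conj (hF : Fintype.card F = q ^ 2) {n : ℕ} (v w : Fin n → F)
    (hv : hermS hF n v v = 1) (hw : hermS hF n w w = 1) :
    ∃ C : Matrix (Fin n) (Fin n) F, C.det = 1 ∧
      (∀ x y, Cfsg.hermForm n F q (C *ᵥ x) (C *ᵥ y) = Cfsg.hermForm n F q x y) ∧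
      C * uinv q v = uinv q w * C := by
  have hq := two_le_of_card_sq hF
  have hσ := frobH_ne_id hF
  have hσ2 := frobH_invol hF
  have hS := hermS_isSymm hF n
  have hnd := hermS_nondegenerate hF n
  have hw0 : w ≠ 0 := by
    rintro rfl
    rw [map_zero] at hw
    exact zero_ne_one hw
  obtain ⟨f, hf⟩ : ∃ f : (Fin n → F) →ₗ[F] (Fin n → F), ∀ x, f x = hermS hF n v x • w :=
    ⟨(hermS hF n v).smulRight w, fun x => rfl⟩
  have hfv : ∀ d : F, f (d • v) = d • w := by
    intro d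
    rw [hf, map_smul, smul_eq_mul, hv, mul_one]
  obtain ⟨g, hg, hgX⟩ := witt_herm (frobH hF) hσ hσ2 (hermS hF n) hS hnd (Submodule.span F {v}) f
    (by
      intro x hx x' hx'
      obtain ⟨d, rfl⟩ := Submodule.mem_span_singleton.1 hx
      obtain ⟨d', rfl⟩ := Submodule.mem_span_singleton.1 hx'
      rw [hfv, hfv]
      simp only [hermS_smul_left, map_smul, smul_eq_mul, hw, hv])
    (by
      intro x hx h0
      obtain ⟨d, rfl⟩ := Submodule.mem_span_singleton.1 hx
      rw [hfv] at h0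
      rw [(smul_eq_zero.1 h0).resolve_right hw0, zero_smul])
  have hgv : g v = w := by
    rw [hgX v (Submodule.mem_span_singleton_self v)]
    have := hfv 1
    rw [one_smul, one_smul] at this
    exact this
  obtain ⟨G, hGdef⟩ : ∃ G : Matrix (Fin n) (Fin n) F,
      G = LinearMap.toMatrix' (g : (Fin n → F) →ₗ[F] (Fin n → F)) := ⟨_, rfl⟩
  have hGv : ∀ x, G *ᵥ x = g x := by
    intro x
    rw [hGdef, ← Matrix.toLin'_apply, Matrix.toLin'_toMatrix']
    rfl
  have hGpres : ∀ u v, Cfsg.hermForm n F q (G *ᵥ u) (G *ᵥ v) = Cfsg.hermForm n F q u v := by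
    intro u v
    rw [hGv, hGv, ← hermS_apply hF, hg, hermS_apply]
  have hδ := det_norm_of_preserves hF G hGpres
  have hδ0 : G.det ≠ 0 := by
    intro h0
    rw [h0, zero_pow (by omega)] at hδ
    exact zero_ne_one hδ
  have hδi : (G.det)⁻¹ * frobH hF (G.det)⁻¹ = 1 := by
    rw [frobH_apply, ← pow_succ', inv_pow, hδ, inv_one]
  have hZpres := urefl_preserves hF w (G.det)⁻¹ hw hδi
  have hCpres : ∀ x y, Cfsg.hermForm n F q ((urefl q w (G.det)⁻¹ * G) *ᵥ x)
      ((urefl q w (G.det)⁻¹ * G) *ᵥ y) = Cfsg.hermForm n F q x y := by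
    intro x y
    rw [← Matrix.mulVec_mulVec, ← Matrix.mulVec_mulVec, hZpres, hGpres]
  refine ⟨urefl q w (G.det)⁻¹ * G, ?_, hCpres, ?_⟩
  · rw [Matrix.det_mul, urefl_det hF w _ hw, inv_mul_cancel₀ hδ0]
  · rw [uinv_conj hF _ hCpres v]
    congr 1
    have h1 : (urefl q w (G.det)⁻¹ * G) *ᵥ v = (G.det)⁻¹ • w := by
      rw [← Matrix.mulVec_mulVec, hGv, hgv, urefl_mulVec hF, hw, mul_one]
      rw [sub_smul, one_smul]
      abel
    rw [h1]
    apply uinv_smul hF w _ hw
    rw [← h1, hermS_apply, hCpres, ← hermS_apply hF, hv]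

/-- Commuting `uinv`s are equal or orthogonal. -/
theorem uinv_comm_orth (hF : Fintype.card F = q ^ 2) (h2 : (2 : F) ≠ 0) {n : ℕ} (v w : Fin n → F)
    (hv : hermS hF n v v = 1) (hw : hermS hF n w w = 1)
    (hcomm : uinv q v * uinv q w = uinv q w * uinv q v) :
    uinv q v = uinv q w ∨ hermS hF n v w = 0 := by
  by_cases hvw : hermS hF n v w = 0
  · exact Or.inr hvw
  · left
    have h1 := congrArg (fun M : Matrix (Fin n) (Fin n) F => M *ᵥ w) hcomm
    simp only [← Matrix.mulVec_mulVec] at h1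
    have hww : uinv q w *ᵥ w = w := by
      rw [uinv_mulVec hF, hw, mul_one, two_smul]
      abel
    rw [hww] at h1
    obtain ⟨y, hy⟩ : ∃ y, y = uinv q v *ᵥ w := ⟨_, rfl⟩
    rw [← hy, uinv_mulVec hF] at h1
    have h3 : (2 : F) • y = (2 : F) • (hermS hF n w y • w) := by
      rw [smul_smul]
      have : (2 : F) • y = y + y := two_smul F y
      rw [this]
      nth_rewrite 1 [h1]
      abel
    have h4 : y = hermS hF n w y • w := smul_right_injective _ h2 h3
    rw [hy, uinv_mulVec hF] at h4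
    have h5 : (2 * hermS hF n v w) • v = (1 + hermS hF n w (-w + (2 * hermS hF n v w) • v)) • w := by
      rw [add_smul, one_smul, ← h4]
      abel
    have h6 : v = ((2 * hermS hF n v w)⁻¹ * (1 + hermS hF n w (-w + (2 * hermS hF n v w) • v))) • w := by
      rw [← smul_smul, ← h5, smul_smul, inv_mul_cancel₀ (mul_ne_zero h2 hvw), one_smul]
    exact ((uinv_eq_iff hF h2 w v hw hv).2 ⟨_, h6⟩).symm

/-- Expansion in an orthonormal triple of `F^3`. -/
theorem orthonormal3_expand (hF : Fintype.card F = q ^ 2) (v w u : Fin 3 → F)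
    (hv : hermS hF 3 v v = 1) (hw : hermS hF 3 w w = 1) (hu : hermS hF 3 u u = 1)
    (hvw : hermS hF 3 v w = 0) (hvu : hermS hF 3 v u = 0) (hwu : hermS hF 3 w u = 0)
    (x : Fin 3 → F) :
    x = hermS hF 3 v x • v + hermS hF 3 w x • w + hermS hF 3 u x • u := by
  have hS := hermS_isSymm hF 3
  have hwv : hermS hF 3 w v = 0 := by rw [← hS.eq v w, hvw, map_zero]
  have huv : hermS hF 3 u v = 0 := by rw [← hS.eq v u, hvu, map_zero]
  have huw : hermS hF 3 u w = 0 := by rw [← hS.eq w u, hwu, map_zero]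
  obtain ⟨b, hb⟩ : ∃ b : Fin 3 → Fin 3 → F, b = ![v, w, u] := ⟨_, rfl⟩
  obtain ⟨U, hU⟩ : ∃ U : Matrix (Fin 3) (Fin 3) F, U = Matrix.of (fun j i => b i j) := ⟨_, rfl⟩
  obtain ⟨W, hW⟩ : ∃ W : Matrix (Fin 3) (Fin 3) F, W = Matrix.of (fun i j => b i j ^ q) :=
    ⟨_, rfl⟩
  have hWU : W * U = 1 := by
    ext i k
    rw [Matrix.mul_apply, hW, hU]
    simp only [Matrix.of_apply]
    have e : ∑ j, b i j ^ q * b k j = hermS hF 3 (b i) (b k) := by
      rw [hermS_apply]
      unfold Cfsg.hermForm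
      exact Finset.sum_congr rfl (fun j _ => mul_comm _ _)
    rw [e, hb]
    fin_cases i <;> fin_cases k <;> simp [hv, hw, hu, hvw, hvu, hwu, hwv, huv, huw]
  have hUW : U * W = 1 := mul_eq_one_comm.1 hWU
  have h1 := congrArg (fun M : Matrix (Fin 3) (Fin 3) F => M *ᵥ x) hUW
  simp only [Matrix.one_mulVec, ← Matrix.mulVec_mulVec] at h1
  have hWx : ∀ i, (W *ᵥ x) i = hermS hF 3 (b i) x := by
    intro i
    rw [hermS_apply, hW]
    unfold Cfsg.hermForm
    simp only [Matrix.mulVec, dotProduct, Matrix.of_apply]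
    exact Finset.sum_congr rfl (fun j _ => mul_comm _ _)
  have hUy : ∀ y : Fin 3 → F, U *ᵥ y = y 0 • v + y 1 • w + y 2 • u := by
    intro y
    ext j
    rw [hU, hb]
    simp [Matrix.mulVec, dotProduct, Fin.sum_univ_three]
    ring
  have hb0 : b 0 = v := by rw [hb]; rfl
  have hb1 : b 1 = w := by rw [hb]; rfl
  have hb2 : b 2 = u := by rw [hb]; rfl
  rw [hUy, hWx, hWx, hWx, hb0, hb1, hb2] at h1
  exact h1.symm

/-- The product of the involutions of two orthogonal unit vectors is the involution of the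
third vector of an orthonormal triple. -/
theorem uinv_mul_orth (hF : Fintype.card F = q ^ 2) (v w u : Fin 3 → F)
    (hv : hermS hF 3 v v = 1) (hw : hermS hF 3 w w = 1) (hu : hermS hF 3 u u = 1)
    (hvw : hermS hF 3 v w = 0) (hvu : hermS hF 3 v u = 0) (hwu : hermS hF 3 w u = 0) :
    uinv q v * uinv q w = uinv q u := by
  apply mat_ext_mulVec'
  intro x
  rw [← Matrix.mulVec_mulVec, uinv_mulVec hF, uinv_mulVec hF, uinv_mulVec hF]
  simp only [map_add, map_neg, map_smul, smul_eq_mul, hvw, mul_zero, add_zero]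
  have hx := orthonormal3_expand hF v w u hv hw hu hvw hvu hwu x
  obtain ⟨a, ha⟩ : ∃ a, a = hermS hF 3 v x := ⟨_, rfl⟩
  obtain ⟨b, hb⟩ : ∃ b, b = hermS hF 3 w x := ⟨_, rfl⟩
  obtain ⟨c, hc⟩ : ∃ c, c = hermS hF 3 u x := ⟨_, rfl⟩
  rw [← ha, ← hb, ← hc] at hx ⊢
  rw [hx]
  module

end

end Cfsg.Agent.H42
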