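import Mathlib
import Cfsg.Prelude.Def_ClassicalGeometry
import Cfsg.Agent.H42.SU3Inv
import Cfsg.Agent.H7.Unitary

set_option autoImplicit false

namespace Cfsg.Agent.H42

open Matrix Cfsg.Agent.H17

section

variable {F : Type*} [Field F] [Fintype F] {q : ℕ}

/-- The matrix of an element of `SU`. -/
def suMat {n : ℕ} (x : ↥(Cfsg.SU n F q)) : Matrix (Fin n) (Fin n) F :=
  ((x : Matrix.SpecialLinearGroup (Fin n) F) : Matrix (Fin n) (Fin n) F)

theorem suMat_mul {n : ℕ} (x y : ↥(Cfsg.SU n F q)) : suMat (x * y) = suMat x * suMat y := rfl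

theorem suMat_one {n : ℕ} : suMat (1 : ↥(Cfsg.SU n F q)) = 1 := rfl

theorem suMat_inj {n : ℕ} {x y : ↥(Cfsg.SU n F q)} (h : suMat x = suMat y) : x = y := by
  apply Subtype.ext
  apply Subtype.ext
  exact h

theorem suMat_pres {n : ℕ} (x : ↥(Cfsg.SU n F q)) (u v : Fin n → F) :
    Cfsg.hermForm n F q (suMat x *ᵥ u) (suMat x *ᵥ v) = Cfsg.hermForm n F q u v := x.2 u v

theorem suMat_det {n : ℕ} (x : ↥(Cfsg.SU n F q)) : (suMat x).det = 1 := x.1.2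

theorem exists_su_of_matrix {n : ℕ} (C : Matrix (Fin n) (Fin n) F) (hdet : C.det = 1)
    (hpres : ∀ u v, Cfsg.hermForm n F q (C *ᵥ u) (C *ᵥ v) = Cfsg.hermForm n F q u v) :
    ∃ c : ↥(Cfsg.SU n F q), suMat c = C := by
  have hmem : (⟨C, hdet⟩ : Matrix.SpecialLinearGroup (Fin n) F) ∈ Cfsg.SU n F q := hpres
  exact ⟨⟨⟨C, hdet⟩, hmem⟩, rfl⟩

theorem two_ne_zero_of_odd (hF : Fintype.card F = q ^ 2) (hq : Odd q) : (2 : F) ≠ 0 := by
  intro h
  have : CharP F 2 := CharTwo.of_one_ne_zero_of_two_eq_zero one_ne_zero h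
  have := q_even_of_char_two hF
  rw [← even_iff_two_dvd] at this
  exact (Nat.not_even_iff_odd.2 hq) this

theorem su3_inv_exists_unit (hF : Fintype.card F = q ^ 2) (h2 : (2 : F) ≠ 0)
    (x : ↥(Cfsg.SU 3 F q)) (hx1 : x ≠ 1) (hxx : x * x = 1) :
    ∃ v : Fin 3 → F, hermS hF 3 v v = 1 ∧ suMat x = uinv q v := by
  apply su3_inv_structure hF h2 (suMat x) (suMat_pres x) (suMat_det x)
  · rw [← suMat_mul, hxx, suMat_one]
  · intro h
    apply hx1
    apply suMat_inj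
    rw [h, suMat_one]

theorem su3_exists_inv_of_unit (hF : Fintype.card F = q ^ 2) (h2 : (2 : F) ≠ 0)
    (v : Fin 3 → F) (hv : hermS hF 3 v v = 1) :
    ∃ x : ↥(Cfsg.SU 3 F q), x ≠ 1 ∧ x * x = 1 ∧ suMat x = uinv q v := by
  obtain ⟨x, hx⟩ := exists_su_of_matrix (uinv q v) (uinv_det3 hF v hv) (uinv_preserves hF v hv)
  refine ⟨x, ?_, ?_, hx⟩
  · intro h
    rw [h, suMat_one] at hx
    exact uinv_ne_one hF h2 v hx.symm
  · apply suMat_inj
    rw [suMat_mul, hx, uinv_sq hF v hv, suMat_one]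

/-- All involutions of `SU_3(q)`, `q` odd, are conjugate. -/
theorem su3_inv_conj (hF : Fintype.card F = q ^ 2) (h2 : (2 : F) ≠ 0)
    (t x : ↥(Cfsg.SU 3 F q)) (ht : t ≠ 1) (ht2 : t * t = 1) (hx : x ≠ 1) (hx2 : x * x = 1) :
    ∃ g : ↥(Cfsg.SU 3 F q), g * t * g⁻¹ = x := by
  obtain ⟨v, hv, hT⟩ := su3_inv_exists_unit hF h2 t ht ht2
  obtain ⟨w, hw, hX⟩ := su3_inv_exists_unit hF h2 x hx hx2
  obtain ⟨C, hCdet, hCpres, hC⟩ := su_uinv_conj hF v w hv hw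
  obtain ⟨g, hg⟩ := exists_su_of_matrix C hCdet hCpres
  refine ⟨g, ?_⟩
  rw [mul_inv_eq_iff_eq_mul]
  apply suMat_inj
  rw [suMat_mul, suMat_mul, hg, hT, hX, hC]

/-- The number of involutions times `q + 1` is the number of unit vectors. -/
theorem su3_inv_card_mul (hF : Fintype.card F = q ^ 2) (h2 : (2 : F) ≠ 0) :
    Nat.card {x : ↥(Cfsg.SU 3 F q) // x ≠ 1 ∧ x * x = 1} * (q + 1) =
      Nat.card {v : Fin 3 → F // Cfsg.hermForm 3 F q v v = 1} := by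
  classical
  have hsel : ∀ x : {x : ↥(Cfsg.SU 3 F q) // x ≠ 1 ∧ x * x = 1},
      ∃ v : Fin 3 → F, hermS hF 3 v v = 1 ∧ suMat x.1 = uinv q v :=
    fun x => su3_inv_exists_unit hF h2 x.1 x.2.1 x.2.2
  choose s hs1 hs2 using hsel
  have hnorm : ∀ (c : {c : F // c ^ (q + 1) = 1}) (v : Fin 3 → F), hermS hF 3 v v = 1 →
      hermS hF 3 ((c : F) • v) ((c : F) • v) = 1 := by
    intro c v hv
    rw [hermS_smul_left, map_smul, smul_eq_mul, hv, mul_one, frobH_apply, ← pow_succ]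
    exact c.2
  rw [← H7.card_norm_fiber_ne hF 1 one_ne_zero (one_pow q), ← Nat.card_prod]
  apply Nat.card_eq_of_bijective
    (fun p : {x : ↥(Cfsg.SU 3 F q) // x ≠ 1 ∧ x * x = 1} × {c : F // c ^ (q + 1) = 1} =>
      (⟨(p.2 : F) • s p.1, hnorm p.2 (s p.1) (hs1 p.1)⟩ :
        {v : Fin 3 → F // Cfsg.hermForm 3 F q v v = 1}))
  constructor
  · rintro ⟨x, c⟩ ⟨x', c'⟩ h
    have h1 : (c : F) • s x = (c' : F) • s x' := congrArg Subtype.val h
    have h3 : uinv q ((c : F) • s x) = uinv q (s x) :=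
      uinv_smul hF (s x) c (hs1 x) (hnorm c (s x) (hs1 x))
    have h4 : uinv q ((c' : F) • s x') = uinv q (s x') :=
      uinv_smul hF (s x') c' (hs1 x') (hnorm c' (s x') (hs1 x'))
    have hxx : x = x' := by
      apply Subtype.ext
      apply suMat_inj
      rw [hs2, hs2, ← h3, ← h4, h1]
    subst hxx
    have hs0 : s x ≠ 0 := by
      intro h0
      have := hs1 x
      rw [h0, map_zero] at this
      exact zero_ne_one this
    have h5 : ((c : F) - (c' : F)) • s x = 0 := by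
      rw [sub_smul, h1, sub_self]
    have h6 := (smul_eq_zero.1 h5).resolve_right hs0
    have hcc : c = c' := Subtype.ext (sub_eq_zero.1 h6)
    rw [hcc]
  · rintro ⟨v, hv⟩
    have hv' : hermS hF 3 v v = 1 := hv
    obtain ⟨x, hx1, hx2, hx3⟩ := su3_exists_inv_of_unit hF h2 v hv'
    have h1 : uinv q (s ⟨x, hx1, hx2⟩) = uinv q v := by
      rw [← hs2, hx3]
    obtain ⟨c, hc⟩ := (uinv_eq_iff hF h2 _ _ (hs1 ⟨x, hx1, hx2⟩) hv').1 h1
    have hc1 : c ^ (q + 1) = 1 := by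
      have h3 := hv'
      rw [hc, hermS_smul_left, map_smul, smul_eq_mul, hs1, mul_one, frobH_apply, ← pow_succ] at h3
      exact h3
    refine ⟨(⟨x, hx1, hx2⟩, ⟨c, hc1⟩), ?_⟩
    apply Subtype.ext
    exact hc.symm

theorem su3_inv_card (hF : Fintype.card F = q ^ 2) (h2 : (2 : F) ≠ 0) :
    Nat.card {x : ↥(Cfsg.SU 3 F q) // x ≠ 1 ∧ x * x = 1} = q ^ 2 * (q ^ 2 - q + 1) := by
  have hq := H7.two_le_of_card_sq hF
  have h1 := su3_inv_card_mul hF h2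
  rw [H7.card_herm_unit hF 3] at h1
  have h3 : ¬ Even 3 := by decide
  rw [if_neg h3] at h1
  have hle : q ≤ q ^ 2 := by nlinarith
  have h4 : q ^ (3 - 1) * (q ^ 3 + 1) = q ^ 2 * (q ^ 2 - q + 1) * (q + 1) := by
    obtain ⟨d, hd⟩ : ∃ d, q ^ 2 = q + d := ⟨q ^ 2 - q, by omega⟩
    have e : q ^ 2 - q + 1 = d + 1 := by omega
    rw [e]
    have e3 : q ^ 3 = q * (q + d) := by rw [← hd]; ring
    norm_num
    rw [e3]
    have : (q + d) * (q * (q + d) + 1) = q ^ 2 * (q * (q + d) + 1) := by rw [hd]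
    nlinarith [hd]
  rw [h4] at h1
  exact Nat.eq_of_mul_eq_mul_right (by omega) h1

/-- Orbit-stabiliser for the class of involutions. -/
theorem su3_centralizer_mul (hF : Fintype.card F = q ^ 2) (h2 : (2 : F) ≠ 0)
    (t : ↥(Cfsg.SU 3 F q)) (ht : t ≠ 1) (ht2 : t * t = 1) :
    Nat.card {x : ↥(Cfsg.SU 3 F q) // x ≠ 1 ∧ x * x = 1} *
      Nat.card ↥(Subgroup.centralizer ({t} : Set ↥(Cfsg.SU 3 F q))) =
      Nat.card ↥(Cfsg.SU 3 F q) := by
  classical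
  have hsel : ∀ x : {x : ↥(Cfsg.SU 3 F q) // x ≠ 1 ∧ x * x = 1},
      ∃ g : ↥(Cfsg.SU 3 F q), g * t * g⁻¹ = x.1 :=
    fun x => su3_inv_conj hF h2 t x.1 ht ht2 x.2.1 x.2.2
  choose γ hγ using hsel
  have hcent : ∀ c : ↥(Subgroup.centralizer ({t} : Set ↥(Cfsg.SU 3 F q))),
      t * (c : ↥(Cfsg.SU 3 F q)) = (c : ↥(Cfsg.SU 3 F q)) * t := fun c =>
    Subgroup.mem_centralizer_iff.1 c.2 t rfl
  rw [← Nat.card_prod]
  apply Nat.card_eq_of_bijective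
    (fun p : {x : ↥(Cfsg.SU 3 F q) // x ≠ 1 ∧ x * x = 1} ×
        ↥(Subgroup.centralizer ({t} : Set ↥(Cfsg.SU 3 F q))) =>
      γ p.1 * (p.2 : ↥(Cfsg.SU 3 F q)))
  constructor
  · rintro ⟨x, c⟩ ⟨x', c'⟩ h
    have h1 : γ x * (c : ↥(Cfsg.SU 3 F q)) = γ x' * (c' : ↥(Cfsg.SU 3 F q)) := h
    have e1 : (γ x * (c : ↥(Cfsg.SU 3 F q))) * t * (γ x * (c : ↥(Cfsg.SU 3 F q)))⁻¹ = x.1 := by
      rw [← hγ x, mul_assoc (γ x), ← hcent c]
      group
    have e2 : (γ x' * (c' : ↥(Cfsg.SU 3 F q))) * t * (γ x' * (c' : ↥(Cfsg.SU 3 F q)))⁻¹ = x'.1 := by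
      rw [← hγ x', mul_assoc (γ x'), ← hcent c']
      group
    have hxx : x = x' := by
      apply Subtype.ext
      rw [← e1, ← e2, h1]
    subst hxx
    have hcc : c = c' := Subtype.ext (mul_left_cancel h1)
    rw [hcc]
  · intro g
    have hx1 : g * t * g⁻¹ ≠ 1 := by
      intro h
      apply ht
      have : t = g⁻¹ * (g * t * g⁻¹) * g := by group
      rw [this, h]
      group
    have hx2 : (g * t * g⁻¹) * (g * t * g⁻¹) = 1 := by
      have : (g * t * g⁻¹) * (g * t * g⁻¹) = g * (t * t) * g⁻¹ := by group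
      rw [this, ht2]
      group
    have h3 : γ ⟨g * t * g⁻¹, hx1, hx2⟩ * t * (γ ⟨g * t * g⁻¹, hx1, hx2⟩)⁻¹ = g * t * g⁻¹ :=
      hγ ⟨g * t * g⁻¹, hx1, hx2⟩
    have hmem : (γ ⟨g * t * g⁻¹, hx1, hx2⟩)⁻¹ * g ∈
        Subgroup.centralizer ({t} : Set ↥(Cfsg.SU 3 F q)) := by
      rw [Subgroup.mem_centralizer_iff]
      intro h hh
      rw [Set.mem_singleton_iff] at hh
      subst hh
      have h4 : γ ⟨g * h * g⁻¹, hx1, hx2⟩ * h = g * h * g⁻¹ * γ ⟨g * h * g⁻¹, hx1, hx2⟩ := by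
        have h4' : γ ⟨g * h * g⁻¹, hx1, hx2⟩ * h =
            (γ ⟨g * h * g⁻¹, hx1, hx2⟩ * h * (γ ⟨g * h * g⁻¹, hx1, hx2⟩)⁻¹) *
              γ ⟨g * h * g⁻¹, hx1, hx2⟩ := by group
        rw [h4', h3]
      have h5 : h * ((γ ⟨g * h * g⁻¹, hx1, hx2⟩)⁻¹ * g) =
          (γ ⟨g * h * g⁻¹, hx1, hx2⟩)⁻¹ * (γ ⟨g * h * g⁻¹, hx1, hx2⟩ * h) *
            ((γ ⟨g * h * g⁻¹, hx1, hx2⟩)⁻¹ * g) := by group
      rw [h5, h4]
      group
    refine ⟨(⟨g * t * g⁻¹, hx1, hx2⟩, ⟨_, hmem⟩), ?_⟩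
    show γ ⟨g * t * g⁻¹, hx1, hx2⟩ * ((γ ⟨g * t * g⁻¹, hx1, hx2⟩)⁻¹ * g) = g
    group

theorem su3_centralizer_card (hF : Fintype.card F = q ^ 2) (h2 : (2 : F) ≠ 0)
    (t : ↥(Cfsg.SU 3 F q)) (ht : t ≠ 1) (ht2 : t * t = 1) :
    Nat.card ↥(Subgroup.centralizer ({t} : Set ↥(Cfsg.SU 3 F q))) =
      q * (q + 1) * (q ^ 2 - 1) := by
  have hq := H7.two_le_of_card_sq hF
  have h1 := su3_centralizer_mul hF h2 t ht ht2
  have h3 := su3_inv_card_mul hF h2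
  rw [H7.card_herm_unit hF 3] at h3
  have h3' : ¬ Even 3 := by decide
  rw [if_neg h3'] at h3
  have h4 := H7.card_SU_mul hF 3 (by omega)
  rw [H7.card_GU hF 3] at h4
  have h5 : ∏ i ∈ Finset.range 3, (if Even i then q ^ (i + 1) + 1 else q ^ (i + 1) - 1) =
      (q + 1) * (q ^ 2 - 1) * (q ^ 3 + 1) := by
    rw [Finset.prod_range_succ, Finset.prod_range_succ, Finset.prod_range_one]
    have e0 : Even 0 := by decide
    have e1 : ¬ Even 1 := by decide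
    have e2 : Even 2 := by decide
    rw [if_pos e0, if_neg e1, if_pos e2]
    norm_num
  rw [h5] at h4
  norm_num at h3 h4
  obtain ⟨I, hI⟩ : ∃ I, I = Nat.card {x : ↥(Cfsg.SU 3 F q) // x ≠ 1 ∧ x * x = 1} := ⟨_, rfl⟩
  obtain ⟨C, hC⟩ : ∃ C, C = Nat.card ↥(Subgroup.centralizer ({t} : Set ↥(Cfsg.SU 3 F q))) :=
    ⟨_, rfl⟩
  obtain ⟨S, hS⟩ : ∃ S, S = Nat.card ↥(Cfsg.SU 3 F q) := ⟨_, rfl⟩
  obtain ⟨d, hd⟩ : ∃ d, d = q ^ 2 - 1 := ⟨_, rfl⟩
  rw [← hI, ← hC, ← hS] at h1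
  rw [← hI] at h3
  rw [← hS, ← hd] at h4
  rw [← hC, ← hd]
  have h6 : (q ^ 2 * (q ^ 3 + 1)) * C = (q ^ 2 * (q ^ 3 + 1)) * (q * (q + 1) * d) := by
    calc (q ^ 2 * (q ^ 3 + 1)) * C = (I * (q + 1)) * C := by rw [h3]
      _ = (q + 1) * (I * C) := by ring
      _ = (q + 1) * S := by rw [h1]
      _ = q ^ 3 * ((q + 1) * d * (q ^ 3 + 1)) := h4
      _ = (q ^ 2 * (q ^ 3 + 1)) * (q * (q + 1) * d) := by ring
  exact Nat.eq_of_mul_eq_mul_left (by positivity) h6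

/-- Two distinct commuting involutions have exactly one further involution commuting with both. -/
theorem su3_third_inv (hF : Fintype.card F = q ^ 2) (h2 : (2 : F) ≠ 0)
    (t x : ↥(Cfsg.SU 3 F q)) (ht : t ≠ 1) (ht2 : t * t = 1) (hx : x ≠ 1) (hx2 : x * x = 1)
    (hxt : x ≠ t) (hc : Commute t x) :
    Nat.card {y : ↥(Cfsg.SU 3 F q) // y ≠ 1 ∧ y * y = 1 ∧ y ≠ t ∧ y ≠ x ∧ Commute t y ∧
      Commute x y} = 1 := by
  have hc' : t * x = x * t := hc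
  have htinv : t⁻¹ = t := inv_eq_of_mul_eq_one_right ht2
  have hxinv : x⁻¹ = x := inv_eq_of_mul_eq_one_right hx2
  rw [Nat.card_eq_one_iff_exists]
  have hmem : t * x ≠ 1 ∧ (t * x) * (t * x) = 1 ∧ t * x ≠ t ∧ t * x ≠ x ∧ Commute t (t * x) ∧
      Commute x (t * x) := by
    refine ⟨?_, ?_, ?_, ?_, ?_, ?_⟩
    · intro h
      apply hxt
      have : x = t⁻¹ := (inv_eq_of_mul_eq_one_right h).symm
      rw [this, htinv]
    · calc t * x * (t * x) = t * (x * t) * x := by group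
        _ = t * (t * x) * x := by rw [hc']
        _ = (t * t) * (x * x) := by group
        _ = 1 := by rw [ht2, hx2, one_mul]
    · intro h
      apply hx
      exact mul_left_cancel (h.trans (mul_one t).symm)
    · intro h
      apply ht
      exact mul_right_cancel (h.trans (one_mul x).symm)
    · show t * (t * x) = t * x * t
      rw [mul_assoc, hc']
    · show x * (t * x) = t * x * x
      rw [← mul_assoc, hc']
  refine ⟨⟨t * x, hmem⟩, ?_⟩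
  rintro ⟨y, hy1, hy2, hyt, hyx, hty, hxy⟩
  apply Subtype.ext
  show y = t * x
  obtain ⟨v, hv, hT⟩ := su3_inv_exists_unit hF h2 t ht ht2
  obtain ⟨w, hw, hX⟩ := su3_inv_exists_unit hF h2 x hx hx2
  obtain ⟨u, hu, hY⟩ := su3_inv_exists_unit hF h2 y hy1 hy2
  have hvw : hermS hF 3 v w = 0 := by
    have h1 : uinv q v * uinv q w = uinv q w * uinv q v := by
      rw [← hT, ← hX, ← suMat_mul, ← suMat_mul, hc']
    rcases uinv_comm_orth hF h2 v w hv hw h1 with h | h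
    · exfalso
      apply hxt
      apply suMat_inj
      rw [hT, hX, h]
    · exact h
  have hvu : hermS hF 3 v u = 0 := by
    have h1 : uinv q v * uinv q u = uinv q u * uinv q v := by
      rw [← hT, ← hY, ← suMat_mul, ← suMat_mul]
      exact congrArg suMat hty
    rcases uinv_comm_orth hF h2 v u hv hu h1 with h | h
    · exfalso
      apply hyt
      apply suMat_inj
      rw [hT, hY, h]
    · exact h
  have hwu : hermS hF 3 w u = 0 := by
    have h1 : uinv q w * uinv q u = uinv q u * uinv q w := by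
      rw [← hX, ← hY, ← suMat_mul, ← suMat_mul]
      exact congrArg suMat hxy
    rcases uinv_comm_orth hF h2 w u hw hu h1 with h | h
    · exfalso
      apply hyx
      apply suMat_inj
      rw [hX, hY, h]
    · exact h
  apply suMat_inj
  rw [suMat_mul, hT, hX, hY, uinv_mul_orth hF v w u hv hw hu hvw hvu hwu]

/-- Statement S2360. -/
theorem su3_involutions {F : Type*} [Field F] [Fintype F] {q : ℕ} (hq : Odd q)
    (hF : Fintype.card F = q ^ 2) (t : ↥(Cfsg.SU 3 F q)) (ht : t ≠ 1) (ht2 : t * t = 1) :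
    (∀ x : ↥(Cfsg.SU 3 F q), x ≠ 1 → x * x = 1 → ∃ g : ↥(Cfsg.SU 3 F q), g * t * g⁻¹ = x) ∧
    Nat.card {x : ↥(Cfsg.SU 3 F q) // x ≠ 1 ∧ x * x = 1} = q ^ 2 * (q ^ 2 - q + 1) ∧
    Nat.card ↥(Subgroup.centralizer ({t} : Set ↥(Cfsg.SU 3 F q))) = q * (q + 1) * (q ^ 2 - 1) ∧
    ∀ x : ↥(Cfsg.SU 3 F q), x ≠ 1 → x * x = 1 → x ≠ t → Commute t x →
      Nat.card {y : ↥(Cfsg.SU 3 F q) // y ≠ 1 ∧ y * y = 1 ∧ y ≠ t ∧ y ≠ x ∧ Commute t y ∧ Commute x y} = 1 := by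
  have h2 := two_ne_zero_of_odd hF hq
  exact ⟨fun x hx hx2 => su3_inv_conj hF h2 t x ht ht2 hx hx2, su3_inv_card hF h2,
    su3_centralizer_card hF h2 t ht ht2,
    fun x hx hx2 hxt hc => su3_third_inv hF h2 t x ht ht2 hx hx2 hxt hc⟩

end

end Cfsg.Agent.H42
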